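import Mathlib

/-!
# Subnormal chain length of a finite group

`cl G` is the largest length of a strictly increasing chain from `⊥` to `⊤`, each term normal in the next.
-/

set_option autoImplicit false

namespace Cfsg.Agent.Lib.CompLength

open Subgroup

variable {G : Type*} [Group G]

/-- One step of a chain. -/
def Step (A B : Subgroup G) : Prop := A < B ∧ (A.subgroupOf B).Normal

/-- There is a chain of length `n` from `⊥` to `B`. -/
inductive StepLen : ℕ → Subgroup G → Prop where
  | zero : StepLen 0 ⊥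
  | succ {n : ℕ} {A B : Subgroup G} : StepLen n A → Step A B → StepLen (n + 1) B

theorem step_iff {A B : Subgroup G} :
    Step A B ↔ A < B ∧ ∀ a ∈ A, ∀ b ∈ B, b * a * b⁻¹ ∈ A := by
  unfold Step
  refine and_congr_right fun h => ⟨fun hn a ha b hb => ?_, fun hh => ⟨fun a ha b => hh _ ha _ b.2⟩⟩
  exact hn.conj_mem ⟨a, h.le ha⟩ ha ⟨b, hb⟩

theorem StepLen.pow_le [Finite G] {n : ℕ} {B : Subgroup G} (h : StepLen n B) : 2 ^ n ≤ Nat.card B := by
  induction h with
  | zero => simp
  | @succ n A B _ hs ih =>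
    obtain ⟨k, hk⟩ := Subgroup.card_dvd_of_le hs.1.le
    have h1 : k ≠ 1 := fun e => hs.1.ne (Subgroup.eq_of_le_of_card_ge hs.1.le (by rw [hk, e, mul_one]))
    have h2 : k ≠ 0 := fun e => (Nat.card_pos (α := B)).ne' (by rw [hk, e, mul_zero])
    rw [pow_succ, hk]
    exact Nat.mul_le_mul ih (by omega)

/-- The length of a longest chain. -/
noncomputable def cl (G : Type*) [Group G] : ℕ := sSup {n | StepLen n (⊤ : Subgroup G)}

theorem StepLen.length_le [Finite G] {n : ℕ} {B : Subgroup G} (h : StepLen n B) : n ≤ Nat.card G :=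
  (Nat.lt_two_pow_self.le.trans h.pow_le).trans (Nat.le_of_dvd Nat.card_pos (Subgroup.card_subgroup_dvd_card B))

theorem le_cl [Finite G] {n : ℕ} (h : StepLen n (⊤ : Subgroup G)) : n ≤ cl G :=
  le_csSup ⟨Nat.card G, fun _ hm => StepLen.length_le hm⟩ h

theorem exists_stepLen [Finite G] (B : Subgroup G) : ∃ n, StepLen n B := by
  by_cases hB : B = ⊥
  · exact ⟨0, hB ▸ .zero⟩
  -- step through the trivial subgroup, which is normal in `B`
  exact ⟨1, .succ .zero (step_iff.2 ⟨bot_lt_iff_ne_bot.2 hB, fun a ha b _ => by simp [Subgroup.mem_bot.1 ha]⟩)⟩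

theorem stepLen_cl (G : Type*) [Group G] [Finite G] : StepLen (cl G) (⊤ : Subgroup G) :=
  Nat.sSup_mem (exists_stepLen ⊤) ⟨Nat.card G, fun _ hm => StepLen.length_le hm⟩

theorem pow_cl_le (G : Type*) [Group G] [Finite G] : 2 ^ cl G ≤ Nat.card G := by
  simpa using (stepLen_cl G).pow_le

/-- Injective homomorphisms carry chains. -/
theorem StepLen.map {H : Type*} [Group H] (f : H →* G) (hf : Function.Injective f) {n : ℕ} {B : Subgroup H}
    (h : StepLen n B) : StepLen n (B.map f) := by
  induction h with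
  | zero => rw [Subgroup.map_bot]; exact .zero
  | @succ n A B _ hs ih =>
    rw [step_iff] at hs
    refine .succ ih (step_iff.2 ⟨(Subgroup.map_lt_map_iff_of_injective hf).2 hs.1, ?_⟩)
    rintro _ ⟨a, ha, rfl⟩ _ ⟨b, hb, rfl⟩
    exact ⟨b * a * b⁻¹, hs.2 a ha b hb, by simp⟩

/-- Concatenation over a normal subgroup. -/
theorem StepLen.comap {Q : Type*} [Group Q] (f : G →* Q) (hf : Function.Surjective f) {m : ℕ}
    (h0 : StepLen m f.ker) {n : ℕ} {B : Subgroup Q} (h : StepLen n B) : StepLen (m + n) (B.comap f) := by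
  induction h with
  | zero => exact h0
  | @succ n A B _ hs ih =>
    rw [step_iff] at hs
    refine .succ ih (step_iff.2 ⟨(Subgroup.comap_lt_comap_of_surjective hf).2 hs.1, fun a ha b hb => ?_⟩)
    show f (b * a * b⁻¹) ∈ A
    simpa using hs.2 (f a) ha (f b) hb

theorem cl_ker_add_range_le [Finite G] {Q : Type*} [Group Q] (f : G →* Q) :
    cl f.ker + cl f.range ≤ cl G := by
  have h0 : StepLen (cl f.ker) f.rangeRestrict.ker := by
    have h1 := (stepLen_cl f.ker).map f.ker.subtype f.ker.subtype_injective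
    rw [← MonoidHom.range_eq_map, Subgroup.range_subtype] at h1
    rw [MonoidHom.ker_rangeRestrict]
    exact h1
  haveI : Finite f.range := Finite.of_surjective f.rangeRestrict f.rangeRestrict_surjective
  have h := h0.comap f.rangeRestrict f.rangeRestrict_surjective (stepLen_cl f.range)
  rw [Subgroup.comap_top] at h
  exact le_cl h

/-- Every chain splits along a homomorphism. -/
theorem StepLen.split {Q : Type*} [Group Q] (f : G →* Q) {n : ℕ} {B : Subgroup G} (h : StepLen n B) :
    ∃ a b : ℕ, n ≤ a + b ∧ StepLen a (B.subgroupOf f.ker) ∧ StepLen b (B.map f.rangeRestrict) := by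
  classical
  induction h with
  | zero =>
    refine ⟨0, 0, le_rfl, ?_, ?_⟩
    · rw [Subgroup.bot_subgroupOf]; exact .zero
    · rw [Subgroup.map_bot]; exact .zero
  | @succ n A B _ hs ih =>
    obtain ⟨a, b, hn, ha, hb⟩ := ih
    obtain ⟨hlt, hconj⟩ := step_iff.1 hs
    have hka : A.subgroupOf f.ker ≤ B.subgroupOf f.ker := fun x hx => hlt.le hx
    have him : A.map f.rangeRestrict ≤ B.map f.rangeRestrict := Subgroup.map_mono hlt.le
    by_cases h1 : A.map f.rangeRestrict = B.map f.rangeRestrict
    · have h2 : A.subgroupOf f.ker < B.subgroupOf f.ker := by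
        refine lt_of_le_of_ne hka fun he => hlt.ne (le_antisymm hlt.le fun x hx => ?_)
        obtain ⟨y, hy, hxy⟩ : f.rangeRestrict x ∈ A.map f.rangeRestrict := h1 ▸ ⟨x, hx, rfl⟩
        have hk : y⁻¹ * x ∈ f.ker := by
          rw [MonoidHom.mem_ker, map_mul, map_inv, inv_mul_eq_one]
          exact congrArg Subtype.val hxy
        have : (⟨_, hk⟩ : f.ker) ∈ A.subgroupOf f.ker := he ▸ B.mul_mem (B.inv_mem (hlt.le hy)) hx
        simpa using A.mul_mem hy this
      refine ⟨a + 1, b, by omega, .succ ha (step_iff.2 ⟨h2, fun u hu v hv => hconj u hu v hv⟩), h1 ▸ hb⟩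
    · refine ⟨a + (if A.subgroupOf f.ker = B.subgroupOf f.ker then 0 else 1), b + 1, by omega, ?_,
        .succ hb (step_iff.2 ⟨lt_of_le_of_ne him h1, ?_⟩)⟩
      · split
        · rename_i he; exact he ▸ ha
        · rename_i he
          exact .succ ha (step_iff.2 ⟨lt_of_le_of_ne hka he, fun u hu v hv => hconj u hu v hv⟩)
      · rintro _ ⟨u, hu, rfl⟩ _ ⟨v, hv, rfl⟩
        exact ⟨v * u * v⁻¹, hconj u hu v hv, by simp⟩

theorem cl_le_ker_add_range [Finite G] {Q : Type*} [Group Q] (f : G →* Q) :
    cl G ≤ cl f.ker + cl f.range := by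
  haveI : Finite f.range := Finite.of_surjective f.rangeRestrict f.rangeRestrict_surjective
  obtain ⟨a, b, hn, ha, hb⟩ := (stepLen_cl G).split f
  rw [Subgroup.top_subgroupOf] at ha
  rw [← MonoidHom.range_eq_map, MonoidHom.range_eq_top.2 f.rangeRestrict_surjective] at hb
  exact hn.trans (add_le_add (le_cl ha) (le_cl hb))

theorem cl_le_of_injective [Finite G] {Q : Type*} [Group Q] (f : G →* Q) (hf : Function.Injective f) :
    cl G ≤ cl f.range := by
  have h := cl_le_ker_add_range f
  have : cl f.ker = 0 := by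
    have h1 := pow_cl_le f.ker
    have hc : Nat.card f.ker = 1 := by rw [(MonoidHom.ker_eq_bot_iff f).2 hf, Subgroup.card_bot]
    rw [hc] at h1
    by_contra h0
    exact absurd h1 (Nat.not_le.2 (Nat.one_lt_two_pow h0))
  omega

theorem range_cl_le [Finite G] {Q : Type*} [Group Q] (f : G →* Q) : cl f.range ≤ cl G :=
  (Nat.le_add_left _ _).trans (cl_ker_add_range_le f)

theorem cl_congr [Finite G] {H : Type*} [Group H] [Finite H] (e : G ≃* H) : cl G = cl H := by
  apply le_antisymm
  · have h := (stepLen_cl G).map e.toMonoidHom e.injective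
    rw [← MonoidHom.range_eq_map, MonoidHom.range_eq_top.2 e.surjective] at h
    exact le_cl h
  · have h := (stepLen_cl H).map e.symm.toMonoidHom e.symm.injective
    rw [← MonoidHom.range_eq_map, MonoidHom.range_eq_top.2 e.symm.surjective] at h
    exact le_cl h

theorem cl_eq_zero [Subsingleton G] : cl G = 0 := by
  haveI : Finite G := Finite.of_subsingleton
  have h := pow_cl_le G
  rw [Nat.card_of_subsingleton (1 : G)] at h
  by_contra h0
  exact absurd h (Nat.not_le.2 (Nat.one_lt_two_pow h0))

theorem one_le_cl [Finite G] [Nontrivial G] : 1 ≤ cl G :=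
  le_cl (.succ .zero (step_iff.2 ⟨bot_lt_top, fun a ha b _ => by simp [Subgroup.mem_bot.1 ha]⟩))

theorem cl_le_one [Finite G] (h : ∀ A : Subgroup G, A.Normal → A = ⊥ ∨ A = ⊤) : cl G ≤ 1 := by
  have hs := stepLen_cl G
  generalize cl G = n at hs ⊢
  generalize hB : (⊤ : Subgroup G) = B at hs
  cases hs with
  | zero => omega
  | @succ m A _ hA hst =>
    obtain ⟨hlt, hconj⟩ := step_iff.1 hst
    subst hB
    rcases h A ⟨fun a ha b => hconj a ha b (Subgroup.mem_top b)⟩ with rfl | rfl
    · cases hA with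
      | zero => omega
      | succ _ h2 => exact absurd h2.1 not_lt_bot
    · exact absurd hlt (lt_irrefl _)

/-- The length is at most the number of prime factors of the order. -/
theorem StepLen.le_cardFactors [Finite G] {n : ℕ} {B : Subgroup G} (h : StepLen n B) :
    n ≤ ArithmeticFunction.cardFactors (Nat.card B) := by
  induction h with
  | zero => simp
  | @succ n A B _ hs ih =>
    obtain ⟨k, hk⟩ := Subgroup.card_dvd_of_le hs.1.le
    have h1 : k ≠ 1 := fun e => hs.1.ne (Subgroup.eq_of_le_of_card_ge hs.1.le (by rw [hk, e, mul_one]))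
    have h2 : k ≠ 0 := fun e => (Nat.card_pos (α := B)).ne' (by rw [hk, e, mul_zero])
    rw [hk, ArithmeticFunction.cardFactors_mul Nat.card_pos.ne' h2]
    have : 0 < ArithmeticFunction.cardFactors k :=
      Nat.pos_of_ne_zero fun e => h1 ((ArithmeticFunction.cardFactors_eq_zero_iff_eq_zero_or_one.1 e).resolve_left h2)
    omega

end Cfsg.Agent.Lib.CompLength
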