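import Mathlib
import Cfsg.Agent.Lib.CompLength.Basic
import Cfsg.Agent.Lib.RecogThree.MinNormalFactors

/-!
# Projections of a nonabelian minimal normal subgroup onto its simple factors
-/

set_option autoImplicit false
set_option linter.unusedSectionVars false

namespace Cfsg.Agent.Lib.CompLength.Factors

open Subgroup Cfsg.Agent.Lib.RecogThree.MinNormalFactors

variable {G : Type*} [Group G] [Finite G] {N M : Subgroup G}

/-- A minimal normal subgroup with trivial centre, with a chosen factor. -/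
structure Setting (N M : Subgroup G) : Prop where
  normal : N.Normal
  centreless : N ⊓ Subgroup.centralizer (N : Set G) = ⊥
  factor : Factor N M

/-- The factors: the conjugates of `M`. -/
abbrev Fac (M : Subgroup G) : Type _ := {F : Subgroup G // ∃ g, cj M g = F}

theorem cj_cj (M : Subgroup G) (a b : G) : cj (cj M a) b = cj M (b * a) := by
  ext z
  simp only [mem_cj, mul_inv_rev, mul_assoc]

theorem cj_one (M : Subgroup G) : cj M 1 = M := by ext z; simp [mem_cj]

/-- The factor `M` itself. -/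
def base (M : Subgroup G) : Fac M := ⟨M, 1, cj_one M⟩

/-- Conjugation on factors. -/
def mapFac (g : G) (F : Fac M) : Fac M :=
  ⟨cj F.1 g, by obtain ⟨a, ha⟩ := F.2; exact ⟨g * a, by rw [← ha, cj_cj]⟩⟩

theorem mem_mapFac {g : G} {F : Fac M} {y : G} : y ∈ (mapFac g F).1 ↔ g⁻¹ * y * g ∈ F.1 := mem_cj

theorem conj_mem_mapFac {g : G} {F : Fac M} {y : G} (hy : y ∈ F.1) : g * y * g⁻¹ ∈ (mapFac g F).1 := by
  rw [mem_mapFac]; simpa [mul_assoc] using hy

namespace Setting

variable (S : Setting N M)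
include S

theorem le (F : Fac M) : F.1 ≤ N := by
  obtain ⟨g, hg⟩ := F.2
  intro z hz
  rw [← hg, mem_cj] at hz
  have := S.normal.conj_mem _ (S.factor.le hz) g
  simpa [mul_assoc] using this

theorem normalized (F : Fac M) {n y : G} (hn : n ∈ N) (hy : y ∈ F.1) : n * y * n⁻¹ ∈ F.1 := by
  obtain ⟨g, hg⟩ := F.2
  rw [← hg, mem_cj] at hy ⊢
  have h := S.factor.normalized (g⁻¹ * n * g) (by simpa using S.normal.conj_mem n hn g⁻¹) _ hy
  simpa [mul_assoc] using h

theorem commute (F F' : Fac M) (h : F ≠ F') {x y : G} (hx : x ∈ F.1) (hy : y ∈ F'.1) : x * y = y * x := by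
  obtain ⟨a, ha⟩ := F.2
  obtain ⟨b, hb⟩ := F'.2
  rw [← ha, mem_cj] at hx
  rw [← hb, mem_cj] at hy
  have hne : cj M (a⁻¹ * b) ≠ M := by
    intro he
    refine h (Subtype.ext ?_)
    rw [← ha, ← hb]
    calc cj M a = cj (cj M (a⁻¹ * b)) a := by rw [he]
      _ = cj M b := by rw [cj_cj, mul_inv_cancel_left]
  have h2 := S.factor.commute _ hne _ hx (a⁻¹ * y * a) (by rw [mem_cj]; simpa [mul_assoc] using hy)
  calc x * y = a * ((a⁻¹ * x * a) * (a⁻¹ * y * a)) * a⁻¹ := by group
    _ = y * x := by rw [h2]; group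

theorem centre_eq_one (F : Fac M) {x : G} (hx : x ∈ F.1) (h : ∀ y ∈ F.1, x * y = y * x) : x = 1 := by
  obtain ⟨g, hg⟩ := F.2
  rw [← hg, mem_cj] at hx
  have h1 := S.factor.centreless _ hx fun y hy => by
    have h2 := h (g * y * g⁻¹) (by rw [← hg, mem_cj]; simpa [mul_assoc] using hy)
    calc g⁻¹ * x * g * y = g⁻¹ * (x * (g * y * g⁻¹)) * g := by group
      _ = y * (g⁻¹ * x * g) := by rw [h2]; group
  calc x = g * (g⁻¹ * x * g) * g⁻¹ := by group
    _ = 1 := by rw [h1]; group

theorem exists_component (F : Fac M) (n : N) :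
    ∃ x : F.1, ∀ y ∈ F.1, (n : G) * y * (n : G)⁻¹ = x * y * (x : G)⁻¹ := by
  obtain ⟨g, hg⟩ := F.2
  obtain ⟨m, hm, c, hc, he⟩ := S.factor.decomp _ (show g⁻¹ * (n : G) * g ∈ N by
    simpa using S.normal.conj_mem n n.2 g⁻¹)
  refine ⟨⟨g * m * g⁻¹, by rw [← hg, mem_cj]; simpa [mul_assoc] using hm⟩, fun y hy => ?_⟩
  rw [← hg, mem_cj] at hy
  calc (n : G) * y * (n : G)⁻¹ = g * ((g⁻¹ * n * g) * (g⁻¹ * y * g) * (g⁻¹ * n * g)⁻¹) * g⁻¹ := by group
    _ = g * (m * (g⁻¹ * y * g) * m⁻¹) * g⁻¹ := by rw [he, S.factor.conj_eq hc hy]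
    _ = (g * m * g⁻¹) * y * (g * m * g⁻¹)⁻¹ := by group

theorem component_unique (F : Fac M) {x x' : F.1}
    (h : ∀ y ∈ F.1, (x : G) * y * (x : G)⁻¹ = x' * y * (x' : G)⁻¹) : x = x' := by
  have h1 := S.centre_eq_one F (F.1.mul_mem (F.1.inv_mem x'.2) x.2) fun y hy => by
    calc (x' : G)⁻¹ * x * y = (x' : G)⁻¹ * (x * y * (x : G)⁻¹) * x := by group
      _ = y * ((x' : G)⁻¹ * x) := by rw [h y hy]; group
  exact Subtype.ext (inv_mul_eq_one.1 h1).symm

/-- The component of an element of `N` in the factor `F`. -/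
noncomputable def proj (F : Fac M) : N →* F.1 :=
  MonoidHom.mk' (fun n => Classical.choose (S.exists_component F n)) fun a b => by
    refine S.component_unique F fun y hy => ?_
    rw [← Classical.choose_spec (S.exists_component F (a * b)) y hy]
    have hb := Classical.choose_spec (S.exists_component F b) y hy
    have hm : (b : G) * y * (b : G)⁻¹ ∈ F.1 := S.normalized F b.2 hy
    have ha := Classical.choose_spec (S.exists_component F a) _ hm
    simp only [Subgroup.coe_mul]
    calc (a : G) * b * y * ((a : G) * b)⁻¹ = a * (b * y * (b : G)⁻¹) * (a : G)⁻¹ := by group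
      _ = _ := by rw [ha, hb]; group

theorem proj_spec (F : Fac M) (n : N) {y : G} (hy : y ∈ F.1) :
    (n : G) * y * (n : G)⁻¹ = (S.proj F n : G) * y * (S.proj F n : G)⁻¹ :=
  Classical.choose_spec (S.exists_component F n) y hy

theorem proj_eq (F : Fac M) (n : N) (x : F.1)
    (h : ∀ y ∈ F.1, (n : G) * y * (n : G)⁻¹ = x * y * (x : G)⁻¹) : S.proj F n = x :=
  S.component_unique F fun y hy => (S.proj_spec F n hy).symm.trans (h y hy)

theorem proj_self (F : Fac M) {x : G} (hx : x ∈ F.1) : S.proj F ⟨x, S.le F hx⟩ = ⟨x, hx⟩ :=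
  S.proj_eq F _ _ fun _ _ => rfl

theorem proj_other (F F' : Fac M) (h : F ≠ F') {x : G} (hx : x ∈ F'.1) :
    S.proj F ⟨x, S.le F' hx⟩ = 1 := by
  refine S.proj_eq F _ _ fun y hy => ?_
  rw [OneMemClass.coe_one, one_mul, inv_one, mul_one]
  show x * y * x⁻¹ = y
  rw [← S.commute F F' h hy hx, mul_inv_cancel_right]

theorem proj_surjective (F : Fac M) : Function.Surjective (S.proj F) :=
  fun x => ⟨⟨x, S.le F x.2⟩, S.proj_self F x.2⟩

theorem proj_conj (F : Fac M) (g : G) (n n' : N) (h : (n' : G) = g * n * g⁻¹) :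
    ((S.proj (mapFac g F) n' : (mapFac g F).1) : G) = g * (S.proj F n : G) * g⁻¹ := by
  refine congrArg Subtype.val (S.proj_eq (mapFac g F) n' ⟨_, conj_mem_mapFac (S.proj F n).2⟩ fun y hy => ?_)
  rw [mem_mapFac] at hy
  calc (n' : G) * y * (n' : G)⁻¹ = g * ((n : G) * (g⁻¹ * y * g) * (n : G)⁻¹) * g⁻¹ := by rw [h]; group
    _ = _ := by rw [S.proj_spec F n hy]; group

theorem ext_one {n : N} (h : ∀ F, S.proj F n = 1) : n = 1 := by
  have hc : ∀ (F : Fac M), ∀ y ∈ F.1, (n : G) * y = y * n := fun F y hy => by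
    have := S.proj_spec F n hy
    rwa [h F, OneMemClass.coe_one, one_mul, inv_one, mul_one, mul_inv_eq_iff_eq_mul] at this
  have hz : (n : G) ∈ N ⊓ Subgroup.centralizer (N : Set G) := by
    refine ⟨n.2, Subgroup.mem_centralizer_iff.2 fun y hy => ?_⟩
    obtain ⟨m, hm, c, hcm, rfl⟩ := S.factor.decomp y hy
    have h1 : (n : G) * m = m * n := hc (base M) m hm
    have h2 : others M ≤ Subgroup.centralizer {(n : G)} := by
      refine (Subgroup.closure_le _).2 fun w ⟨g, _, hw⟩ => ?_
      exact Subgroup.mem_centralizer_singleton_iff.2 (hc ⟨cj M g, g, rfl⟩ w hw).symm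
    have h3 := Subgroup.mem_centralizer_singleton_iff.1 (h2 hcm)
    rw [mul_assoc, h3, ← mul_assoc, ← h1, mul_assoc]
  rw [S.centreless, Subgroup.mem_bot] at hz
  exact Subtype.ext hz

theorem ext {n n' : N} (h : ∀ F, S.proj F n = S.proj F n') : n = n' := by
  rw [← inv_mul_eq_one]
  exact S.ext_one fun F => by rw [map_mul, map_inv, h, inv_mul_cancel]

theorem exists_of_components (f : ∀ F : Fac M, F.1) : ∃ n : N, ∀ F, S.proj F n = f F := by
  classical
  have := Fintype.ofFinite (Fac M)
  suffices key : ∀ s : Finset (Fac M), ∃ n : N, (∀ F ∈ s, S.proj F n = f F) ∧ ∀ F ∉ s, S.proj F n = 1 by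
    obtain ⟨n, hn, -⟩ := key Finset.univ
    exact ⟨n, fun F => hn F (Finset.mem_univ F)⟩
  intro s
  induction s using Finset.induction_on with
  | empty => exact ⟨1, by simp, fun F _ => map_one _⟩
  | @insert E s hE ih =>
    obtain ⟨n, h1, h2⟩ := ih
    refine ⟨⟨_, S.le E (f E).2⟩ * n, fun F hF => ?_, fun F hF => ?_⟩
    · rcases Finset.mem_insert.1 hF with rfl | hF
      · rw [map_mul, S.proj_self, h2 _ hE, mul_one]
      · rw [map_mul, S.proj_other F E (fun e => hE (e ▸ hF)) (f E).2, one_mul, h1 F hF]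
    · rw [map_mul, S.proj_other F E (fun e => hF (e ▸ Finset.mem_insert_self _ _)) (f E).2, one_mul,
        h2 F fun h => hF (Finset.mem_insert_of_mem h)]

theorem map_proj_eq (F : Fac M) {D E : Subgroup N} (hE : E.map (S.proj F) = ⊤)
    (hDE : ∀ e ∈ E, ∀ d ∈ D, e * d * e⁻¹ ∈ D) : D.map (S.proj F) = ⊥ ∨ D.map (S.proj F) = ⊤ := by
  obtain ⟨g, hg⟩ := F.2
  have hconj : ∀ w ∈ F.1, ∀ x ∈ (D.map (S.proj F)).map F.1.subtype,
      w * x * w⁻¹ ∈ (D.map (S.proj F)).map F.1.subtype := by
    rintro w hw _ ⟨_, ⟨d, hd, rfl⟩, rfl⟩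
    obtain ⟨e, he, hew⟩ := hE.ge (Subgroup.mem_top (⟨w, hw⟩ : F.1))
    exact ⟨S.proj F (e * d * e⁻¹), ⟨_, hDE e he d hd, rfl⟩, by simp [hew]⟩
  set Y := (D.map (S.proj F)).map F.1.subtype with hY
  have hYF : Y ≤ F.1 := Subgroup.map_subtype_le _
  set Y' := cj Y g⁻¹ with hY'
  have h1 := S.factor.minimal Y' (fun z hz => by
      rw [hY', mem_cj, inv_inv] at hz
      have := hYF hz
      rw [← hg, mem_cj] at this
      simpa [mul_assoc] using this) (fun m hm z hz => by
      rw [hY', mem_cj, inv_inv] at hz ⊢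
      have := hconj (g * m * g⁻¹) (by rw [← hg, mem_cj]; simpa [mul_assoc] using hm) _ hz
      simpa [mul_assoc] using this)
  have hback : cj Y' g = Y := by rw [hY', cj_cj, mul_inv_cancel, cj_one]
  rcases h1 with h | h
  · left
    rw [h, show cj (⊥ : Subgroup G) g = ⊥ from Subgroup.map_bot _] at hback
    exact (Subgroup.map_eq_bot_iff_of_injective _ F.1.subtype_injective).1 hback.symm
  · right
    rw [h, hg] at hback
    refine eq_top_iff.2 fun w _ => ?_
    obtain ⟨w', hw', he⟩ := hback.le w.2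
    exact (Subtype.ext he : w' = w) ▸ hw'

theorem cl_fac_le (F : Fac M) : cl F.1 ≤ 1 := by
  refine cl_le_one fun A hA => ?_
  rcases S.map_proj_eq F (D := A.comap (S.proj F)) (E := ⊤)
      (Subgroup.map_top_of_surjective _ (S.proj_surjective F))
      (fun e _ d hd => by
        show S.proj F (e * d * e⁻¹) ∈ A
        simpa using hA.conj_mem _ hd (S.proj F e)) with h | h <;>
    rw [Subgroup.map_comap_eq_self_of_surjective (S.proj_surjective F)] at h
  · exact Or.inl h
  · exact Or.inr h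

/-- The elements of `N` with components only in `s`. -/
noncomputable def supported (s : Set (Fac M)) : Subgroup N where
  carrier := {n | ∀ F, F ∉ s → S.proj F n = 1}
  one_mem' := fun F _ => map_one _
  mul_mem' := fun ha hb F hF => by rw [map_mul, ha F hF, hb F hF, mul_one]
  inv_mem' := fun ha F hF => by rw [map_inv, ha F hF, inv_one]

theorem mem_supported {s : Set (Fac M)} {n : N} :
    n ∈ S.supported s ↔ ∀ F, F ∉ s → S.proj F n = 1 := Iff.rfl

/-- Removing a factor. -/
noncomputable def kerEquiv {t u : Set (Fac M)} (E : Fac M)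
    (φ : S.supported u →* E.1) (hφ : ∀ x, φ x = S.proj E x.1) (htu : u = insert E t) (hE : E ∉ t) :
    φ.ker ≃* S.supported t where
  toFun x := ⟨x.1.1, fun F hF => by
    by_cases hFE : F = E
    · subst hFE
      exact (hφ x.1).symm.trans x.2
    · exact x.1.2 F (by rw [htu]; simp [hFE, hF])⟩
  invFun x := ⟨⟨x.1, fun F hF => x.2 F fun h => hF (htu ▸ Set.mem_insert_of_mem E h)⟩,
    (hφ _).trans (x.2 E hE)⟩
  left_inv _ := Subtype.ext (Subtype.ext rfl)
  right_inv _ := Subtype.ext rfl
  map_mul' _ _ := Subtype.ext rfl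

theorem supported_normal (s : Set (Fac M)) : (S.supported s).Normal := by
  refine ⟨fun n hn e => S.mem_supported.2 fun F hF => ?_⟩
  rw [map_mul, map_mul, map_inv, S.mem_supported.1 hn F hF, mul_one, mul_inv_cancel]

theorem cl_supported_le (s : Finset (Fac M)) : cl (S.supported (s : Set (Fac M))) ≤ s.card := by
  classical
  induction s using Finset.induction_on with
  | empty =>
    haveI : Subsingleton (S.supported ((∅ : Finset (Fac M)) : Set (Fac M))) := ⟨fun a b => Subtype.ext
      (S.ext fun F => by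
        rw [S.mem_supported.1 a.2 F (by simp), S.mem_supported.1 b.2 F (by simp)])⟩
    rw [cl_eq_zero]
    simp
  | @insert E s hE ih =>
    set φ := (S.proj E).comp (S.supported ((insert E s : Finset (Fac M)) : Set (Fac M))).subtype with hφ
    refine (cl_le_ker_add_range φ).trans ?_
    rw [Finset.card_insert_of_notMem hE]
    refine add_le_add ?_ ?_
    · exact le_trans (le_of_eq (cl_congr (S.kerEquiv E φ (fun _ => rfl) (Finset.coe_insert E s) hE))) ih
    · have hr : φ.range = (S.supported ((insert E s : Finset (Fac M)) : Set (Fac M))).map (S.proj E) := by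
        rw [hφ, MonoidHom.range_comp, Subgroup.range_subtype]
      have h := S.map_proj_eq E (D := S.supported ((insert E s : Finset (Fac M)) : Set (Fac M))) (E := ⊤)
        (Subgroup.map_top_of_surjective _ (S.proj_surjective E))
        (fun e _ d hd => (S.supported_normal _).conj_mem d hd e)
      rw [← hr] at h
      rcases h with h | h
      · haveI : Subsingleton φ.range := by rw [h]; infer_instance
        rw [cl_eq_zero]; exact zero_le_one
      · rw [cl_congr ((MulEquiv.subgroupCongr h).trans Subgroup.topEquiv)]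
        exact S.cl_fac_le E

theorem cl_le_card : cl N ≤ Nat.card (Fac M) := by
  classical
  have := Fintype.ofFinite (Fac M)
  have h := S.cl_supported_le (Finset.univ : Finset (Fac M))
  have ht : S.supported ((Finset.univ : Finset (Fac M)) : Set (Fac M)) = ⊤ :=
    eq_top_iff.2 fun n _ => S.mem_supported.2 fun F hF => absurd (Finset.mem_coe.2 (Finset.mem_univ F)) hF
  rw [cl_congr ((MulEquiv.subgroupCongr ht).trans Subgroup.topEquiv), Finset.card_univ,
    ← Nat.card_eq_fintype_card] at h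
  exact h

end Setting

end Cfsg.Agent.Lib.CompLength.Factors
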