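import Mathlib
import Cfsg.Agent.Lib.CompLength.Basic
import Cfsg.Agent.Lib.CompLength.Factors

/-!
# The composition length of a permutation group of degree `n` with `r` orbits is at most `4 (n - r) / 3`
-/

set_option autoImplicit false
set_option linter.unusedSectionVars false
set_option maxHeartbeats 800000

namespace Cfsg.Agent.Lib.CompLength.Bound

open Subgroup MulAction Cfsg.Agent.Lib.CompLength.Factors Cfsg.Agent.Lib.RecogThree.MinNormalFactors

/-- Number of orbits. -/
noncomputable def orb (G Ω : Type*) [Group G] [MulAction G Ω] : ℕ := Nat.card (orbitRel.Quotient G Ω)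

/-- The bound for all actions of degree `n`. -/
def BoundAt (n : ℕ) : Prop :=
  ∀ (G Ω : Type) [Group G] [Finite G] [Finite Ω] [MulAction G Ω] [FaithfulSMul G Ω],
    Nat.card Ω = n → 3 * cl G + 4 * orb G Ω ≤ 4 * n

theorem orb_pos (G Ω : Type*) [Group G] [MulAction G Ω] [Finite Ω] [Nonempty Ω] : 1 ≤ orb G Ω :=
  haveI : Nonempty (orbitRel.Quotient G Ω) := Nonempty.map Quotient.mk'' inferInstance
  Nat.card_pos (α := orbitRel.Quotient G Ω)

theorem cl_range_rangeRestrict {G Q : Type} [Group G] [Finite G] [Group Q] [Finite Q] (f : G →* Q)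
    (hf : Function.Surjective f) : cl f.range = cl Q :=
  cl_congr ((MulEquiv.subgroupCongr (MonoidHom.range_eq_top.2 hf)).trans Subgroup.topEquiv)

theorem cl_le_normal_add_quotient {G : Type} [Group G] [Finite G] (N : Subgroup G) [N.Normal] :
    cl G ≤ cl N + cl (G ⧸ N) := by
  have h := cl_le_ker_add_range (QuotientGroup.mk' N)
  rw [cl_range_rangeRestrict _ (QuotientGroup.mk'_surjective N),
    cl_congr (MulEquiv.subgroupCongr (QuotientGroup.ker_mk' N))] at h
  exact h

section Step

variable {n : ℕ} (ih : ∀ m < n, BoundAt m)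
variable {G Ω : Type} [Group G] [Finite G] [Finite Ω] [MulAction G Ω] [FaithfulSMul G Ω]
include ih

/-- The complement of a point set, as a set with action. -/
theorem bound_intransitive (hn : Nat.card Ω = n) (htr : ¬ IsPretransitive G Ω) :
    3 * cl G + 4 * orb G Ω ≤ 4 * n := by
  classical
  have hne : ∃ x y : Ω, y ∉ orbit G x := by
    by_contra h
    push Not at h
    exact htr ⟨fun x y => mem_orbit_iff.1 (h x y)⟩
  obtain ⟨a, b, hb⟩ := hne
  let O : SubMulAction G Ω :=
    ⟨orbit G a, fun g x hx => (mem_orbit_symm.1 (mem_orbit_symm.1 (mapsTo_smul_orbit g a hx)))⟩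
  let O' : SubMulAction G Ω :=
    ⟨(orbit G a)ᶜ, fun g x hx h => hx (by simpa using mapsTo_smul_orbit g⁻¹ a h)⟩
  have hsum : Nat.card O + Nat.card O' = n := by
    rw [← hn, ← Nat.card_sum]
    exact Nat.card_congr (Equiv.sumCompl (fun x => x ∈ orbit G a))
  haveI : Nonempty O := ⟨⟨a, mem_orbit_self a⟩⟩
  haveI : Nonempty O' := ⟨⟨b, hb⟩⟩
  have hO : 0 < Nat.card O := Nat.card_pos
  have hO' : 0 < Nat.card O' := Nat.card_pos
  set f := toPermHom G O with hf
  haveI : FaithfulSMul f.ker O' := ⟨fun {x y} h => by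
    refine Subtype.ext (eq_of_smul_eq_smul (α := Ω) fun w => ?_)
    by_cases hw : w ∈ orbit G a
    · have h1 := congrArg (fun σ : Equiv.Perm O => σ ⟨w, hw⟩) x.2
      have h2 := congrArg (fun σ : Equiv.Perm O => σ ⟨w, hw⟩) y.2
      exact (congrArg Subtype.val h1).trans (congrArg Subtype.val h2).symm
    · exact congrArg Subtype.val (h ⟨w, hw⟩)⟩
  haveI : Finite f.range := Finite.of_surjective f.rangeRestrict f.rangeRestrict_surjective
  have hQ := ih _ (by omega) f.range O rfl
  have hK := ih _ (by omega) f.ker O' rfl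
  have hQ1 : 1 ≤ orb f.range O := orb_pos _ _
  have horb : orb G Ω ≤ orb f.ker O' + 1 := by
    let φ : Option (orbitRel.Quotient f.ker O') → orbitRel.Quotient G Ω := fun o =>
      match o with
      | none => Quotient.mk'' a
      | some q => Quotient.liftOn' q (fun x => Quotient.mk'' (x : Ω)) fun x y hxy => Quotient.sound' (by
          obtain ⟨k, hk⟩ := hxy
          exact ⟨(k : G), congrArg Subtype.val hk⟩)
    have hφ : Function.Surjective φ := by
      intro q
      induction q using Quotient.inductionOn' with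
      | h w =>
        by_cases hw : w ∈ orbit G a
        · exact ⟨none, (Quotient.sound' (orbitRel_apply.2 hw)).symm⟩
        · exact ⟨some (Quotient.mk'' ⟨w, hw⟩), rfl⟩
    have := Nat.card_le_card_of_surjective φ hφ
    rwa [Finite.card_option] at this
  have hc := cl_le_ker_add_range f
  omega

theorem bound_imprimitive (hn : Nat.card Ω = n) [IsPretransitive G Ω] (a : Ω) (W : Subgroup G)
    (hW1 : stabilizer G a < W) (hW2 : W < ⊤) : 3 * cl G + 4 ≤ 4 * n := by
  classical
  haveI : Nonempty Ω := ⟨a⟩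
  have hk2 : 1 < W.index := Subgroup.one_lt_index_of_ne_top hW2.ne
  have hkn : W.index < n := by
    rw [← hn, ← index_stabilizer_of_transitive G a, ← Subgroup.relIndex_mul_index hW1.le]
    refine lt_mul_of_one_lt_left (by omega) ?_
    have h1 : (stabilizer G a).relIndex W ≠ 0 := Subgroup.index_ne_zero_of_finite
    have h2 : (stabilizer G a).relIndex W ≠ 1 := fun h => hW1.not_ge (Subgroup.relIndex_eq_one.1 h)
    omega
  set f := toPermHom G (G ⧸ W) with hf
  haveI : Finite f.range := Finite.of_surjective f.rangeRestrict f.rangeRestrict_surjective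
  have hQ := ih _ hkn f.range (G ⧸ W) rfl
  have hQ1 : 1 ≤ orb f.range (G ⧸ W) := orb_pos _ _
  haveI : FaithfulSMul f.ker Ω := ⟨fun {x y} h => Subtype.ext (eq_of_smul_eq_smul (α := Ω) h)⟩
  have horb : W.index ≤ orb f.ker Ω := by
    choose g hg using fun x : Ω => exists_smul_eq G a x
    let φ : orbitRel.Quotient f.ker Ω → G ⧸ W := fun q => Quotient.liftOn' q (fun x => (g x : G ⧸ W))
      fun x y hxy => by
        obtain ⟨k, hk⟩ := hxy
        have hk' : (k : G) • y = x := hk
        have hstab : (g x)⁻¹ * (k * g y) ∈ stabilizer G a := by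
          rw [mem_stabilizer_iff, mul_smul, mul_smul, hg, hk', inv_smul_eq_iff, hg]
        have h1 : ((g x : G) : G ⧸ W) = ((k * g y : G) : G ⧸ W) := QuotientGroup.eq.2 (hW1.le hstab)
        rw [h1]
        exact congrArg (fun σ : Equiv.Perm (G ⧸ W) => σ (g y : G ⧸ W)) k.2
    refine Nat.card_le_card_of_surjective φ ?_
    intro c
    induction c using QuotientGroup.induction_on with
    | H w =>
      refine ⟨Quotient.mk'' (w • a), ?_⟩
      show ((g (w • a) : G) : G ⧸ W) = w
      refine QuotientGroup.eq.2 (hW1.le ?_)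
      rw [mem_stabilizer_iff, mul_smul, inv_smul_eq_iff, hg]
  have hK : 3 * cl f.ker + 4 * orb f.ker Ω ≤ 4 * n := by
    refine bound_intransitive ih hn fun htr => ?_
    haveI : Subsingleton (orbitRel.Quotient f.ker Ω) := ⟨fun p q => by
      induction p, q using Quotient.inductionOn₂' with
      | h x y =>
        obtain ⟨k, hk⟩ := exists_smul_eq f.ker y x
        exact Quotient.sound' ⟨k, hk⟩⟩
    have : orb f.ker Ω ≤ 1 := Finite.card_le_one_iff_subsingleton.2 this
    omega
  have hc := cl_le_ker_add_range f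
  have : W.index = Nat.card (G ⧸ W) := rfl
  omega

/-- The stabiliser of a point on the other points. -/
theorem bound_stabilizer (hn : Nat.card Ω = n) (a : Ω) (hn2 : 2 ≤ n) :
    ∃ r : ℕ, 1 ≤ r ∧ 3 * cl (stabilizer G a) + 4 * r ≤ 4 * (n - 1) ∧
      ∀ (β : Type) [Finite β] (φ : {x : Ω // x ≠ a} → β), Function.Surjective φ →
        (∀ (h : stabilizer G a) (x : {x : Ω // x ≠ a}) (hx : (h : G) • (x : Ω) ≠ a), φ ⟨_, hx⟩ = φ x) →
        Nat.card β ≤ r := by
  classical
  let X : SubMulAction (stabilizer G a) Ω :=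
    ⟨{x | x ≠ a}, fun h x hx e => hx (by
      have := h.2
      rw [mem_stabilizer_iff] at this
      exact (smul_left_cancel (h : G) (e.trans this.symm)))⟩
  have hX : Nat.card X = n - 1 := by
    have : Nat.card X + 1 = n := by
      rw [← hn, ← Finite.card_option]
      exact Nat.card_congr (Equiv.optionSubtypeNe a)
    omega
  haveI : Nonempty X := (Finite.card_pos_iff.1 (by omega : 0 < Nat.card X))
  haveI : FaithfulSMul (stabilizer G a) X := ⟨fun {h k} e => by
    refine Subtype.ext (eq_of_smul_eq_smul (α := Ω) fun w => ?_)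
    by_cases hw : w = a
    · subst hw
      rw [mem_stabilizer_iff.1 h.2, mem_stabilizer_iff.1 k.2]
    · exact congrArg Subtype.val (e ⟨w, hw⟩)⟩
  have hb := ih (n - 1) (by omega) (stabilizer G a) X hX
  refine ⟨orb (stabilizer G a) X, orb_pos _ _, hb, fun β _ φ hφ hinv => ?_⟩
  let ψ : orbitRel.Quotient (stabilizer G a) X → β := fun q =>
    Quotient.liftOn' q (fun x => φ ⟨x.1, x.2⟩) fun x y hxy => by
      obtain ⟨k, hk⟩ := hxy
      have hk' : (k : G) • (y : Ω) = (x : Ω) := congrArg Subtype.val hk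
      have h1 := hinv k ⟨y.1, y.2⟩ (by rw [hk']; exact x.2)
      rw [← h1]
      exact congrArg φ (Subtype.ext hk'.symm)
  refine Nat.card_le_card_of_surjective ψ fun c => ?_
  obtain ⟨x, hx⟩ := hφ c
  exact ⟨Quotient.mk'' ⟨x.1, x.2⟩, hx⟩

/-- A smaller faithful coset action. -/
theorem bound_coset (N W : Subgroup G) [N.Normal] (hmin : ∀ X : Subgroup G, X.Normal → X ≤ N → X = ⊥ ∨ X = N)
    (hC : Subgroup.centralizer (N : Set G) = ⊥) (hNW : ¬ N ≤ W) (hW : W.index < n) :
    3 * cl G + 4 ≤ 4 * W.index := by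
  classical
  have hcore : W.normalCore = ⊥ := by
    rcases hmin (W.normalCore ⊓ N) inferInstance inf_le_right with h | h
    · rw [eq_bot_iff, ← hC]
      intro x hx
      refine Subgroup.mem_centralizer_iff.2 fun y hy => ?_
      exact (Subgroup.commute_of_normal_of_disjoint _ _ (Subgroup.normalCore_normal W) inferInstance
        (disjoint_iff.2 h) x y hx hy).symm
    · exact absurd ((inf_eq_right.1 h).trans W.normalCore_le) hNW
  haveI : FaithfulSMul G (G ⧸ W) := ⟨fun {g h} e => by
    have : g⁻¹ * h ∈ W.normalCore := by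
      rw [Subgroup.normalCore_eq_ker, MonoidHom.mem_ker]
      ext q
      show (g⁻¹ * h) • q = q
      rw [mul_smul, ← e q, inv_smul_smul]
    rw [hcore, Subgroup.mem_bot, inv_mul_eq_one] at this
    exact this⟩
  have h := ih W.index hW G (G ⧸ W) rfl
  have := orb_pos G (G ⧸ W)
  omega

end Step

/-- An elementary abelian `p`-group is generated by few elements. -/
theorem exists_gens {G : Type} [Group G] [Finite G] {p : ℕ} [Fact p.Prime] (N : Subgroup G) (hN : IsPGroup p N) :
    ∃ s : Finset G, Subgroup.closure (s : Set G) = N ∧ p ^ s.card ≤ Nat.card N := by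
  classical
  obtain ⟨s, ⟨hsN, hs⟩, hmax⟩ := (Set.toFinite {s : Finset G | Subgroup.closure (s : Set G) ≤ N ∧
    p ^ s.card ≤ Nat.card (Subgroup.closure (s : Set G))}).exists_maximal ⟨∅, by simp⟩
  refine ⟨s, le_antisymm hsN fun x hx => ?_, hs.trans (Nat.le_of_dvd Nat.card_pos (Subgroup.card_dvd_of_le hsN))⟩
  by_contra hxs
  have hle : Subgroup.closure (s : Set G) ≤ Subgroup.closure ((insert x s : Finset G) : Set G) :=
    Subgroup.closure_mono (by simp)
  have hins : Subgroup.closure ((insert x s : Finset G) : Set G) ≤ N := by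
    rw [Subgroup.closure_le, Finset.coe_insert, Set.insert_subset_iff]
    exact ⟨hx, fun y hy => hsN (Subgroup.subset_closure hy)⟩
  obtain ⟨k, hk⟩ := Subgroup.card_dvd_of_le hle
  have hxin : x ∈ Subgroup.closure ((insert x s : Finset G) : Set G) := Subgroup.subset_closure (by simp)
  have hk1 : k ≠ 1 := fun e => hxs (Subgroup.eq_of_le_of_card_ge hle (by rw [hk, e, mul_one]) ▸ hxin)
  obtain ⟨j, hj⟩ := IsPGroup.iff_card.1 (hN.to_le hins)
  have hkd : k ∣ p ^ j := hj ▸ hk ▸ dvd_mul_left k _
  obtain ⟨i, -, rfl⟩ := (Nat.dvd_prime_pow (Fact.out : p.Prime)).1 hkd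
  have hi : 1 ≤ i := by
    by_contra h
    exact hk1 (by rw [Nat.lt_one_iff.1 (Nat.lt_of_not_le h), pow_zero])
  have hxs' : x ∉ s := fun h => hxs (Subgroup.subset_closure h)
  have h1 : insert x s ≤ s := hmax ⟨hins, by
    rw [Finset.card_insert_of_notMem hxs', pow_succ, hk]
    exact Nat.mul_le_mul hs (Nat.le_self_pow (by omega) p)⟩ (Finset.subset_insert _ _)
  exact hxs' (h1 (Finset.mem_insert_self _ _))

/-- The number-theoretic part of the affine case. -/
theorem affine_arith {p e c : ℕ} (hp : p.Prime) (he : 1 ≤ e) (hind : 3 * c + 4 ≤ 4 * (p ^ e - 1))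
    (hpow : 2 ^ c ≤ (p ^ e) ^ e) (h8 : p ^ e = 8 → c ≤ 6) : 3 * (e + c) + 4 ≤ 4 * p ^ e := by
  have hp2 := hp.two_le
  have hpe : 1 ≤ p ^ e := Nat.one_le_pow _ _ hp.pos
  rcases Nat.lt_or_ge e 2 with h | h
  · have : e = 1 := by omega
    subst this
    rw [pow_one] at *
    omega
  rcases Nat.eq_or_lt_of_le hp2 with rfl | hp3
  · rw [← pow_mul] at hpow
    have hc : c ≤ e * e := (Nat.pow_le_pow_iff_right (by norm_num)).1 hpow
    rcases Nat.lt_or_ge e 4 with h4 | h4
    · interval_cases e
      · norm_num at hind ⊢; omega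
      · have := h8 (by norm_num); norm_num; omega
    · have key : ∀ m, 4 ≤ m → 3 * (m + m * m) + 4 ≤ 4 * 2 ^ m := by
        intro m hm
        induction m, hm using Nat.le_induction with
        | base => norm_num
        | succ m hm ih =>
          rw [pow_succ]
          have : 6 * m + 6 ≤ 3 * (m + m * m) := by nlinarith
          have : (m + 1) * (m + 1) = m * m + 2 * m + 1 := by ring
          omega
      have := key e h4
      omega
  · obtain ⟨q, rfl⟩ : ∃ q, p = q + 1 := ⟨p - 1, by omega⟩
    have hq : q + 1 ≤ 2 ^ q := Nat.lt_two_pow_self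
    have hc : c ≤ q * (e * e) := by
      refine (Nat.pow_le_pow_iff_right (by norm_num : 1 < 2)).1 (hpow.trans ?_)
      rw [← pow_mul, pow_mul 2 q]
      exact Nat.pow_le_pow_left hq _
    have key : ∀ m, 2 ≤ m → 3 * (q * (m * m)) + 3 * m + 4 ≤ 4 * (q + 1) ^ m := by
      intro m hm
      induction m, hm using Nat.le_induction with
      | base => nlinarith
      | succ m hm ih =>
        rw [pow_succ]
        have h3 : 3 * (4 * (q + 1) ^ m) ≤ 4 * ((q + 1) ^ m * (q + 1)) := by
          nlinarith [Nat.one_le_pow m (q + 1) (by omega)]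
        have h4 : (m + 1) * (m + 1) ≤ 3 * (m * m) := by nlinarith
        have h5 : q * ((m + 1) * (m + 1)) ≤ q * (3 * (m * m)) := Nat.mul_le_mul_left q h4
        have h6 : q * (3 * (m * m)) = 3 * (q * (m * m)) := by ring
        omega
    have := key e h
    omega

theorem cardFactors_le_six : ∀ d ∈ Nat.divisors 5040, d ≤ 512 → ArithmeticFunction.cardFactors d ≤ 6 := by
  intro d hd hle
  have h1 : d ∣ 5040 := (Nat.mem_divisors.1 hd).1
  by_contra h
  -- seven prime factors among those of `5040 = 2⁴·3²·5·7`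
  have h0 : d ≠ 0 := fun e => by subst e; norm_num at h1
  obtain ⟨c, hc⟩ := h1
  have hc0 : c ≠ 0 := fun e => by subst e; norm_num at hc
  have hadd : ArithmeticFunction.cardFactors 5040 = ArithmeticFunction.cardFactors d +
      ArithmeticFunction.cardFactors c := by rw [hc, ArithmeticFunction.cardFactors_mul h0 hc0]
  have h5040 : ArithmeticFunction.cardFactors 5040 = 8 := by
    rw [show (5040 : ℕ) = 2 ^ 4 * 3 ^ 2 * 5 * 7 by norm_num]
    rw [ArithmeticFunction.cardFactors_mul (by norm_num) (by norm_num),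
      ArithmeticFunction.cardFactors_mul (by norm_num) (by norm_num),
      ArithmeticFunction.cardFactors_mul (by norm_num) (by norm_num),
      ArithmeticFunction.cardFactors_apply_prime_pow Nat.prime_two,
      ArithmeticFunction.cardFactors_apply_prime_pow Nat.prime_three,
      ArithmeticFunction.cardFactors_apply_prime (by norm_num : Nat.Prime 5),
      ArithmeticFunction.cardFactors_apply_prime (by norm_num : Nat.Prime 7)]
  have hc1 : ArithmeticFunction.cardFactors c ≤ 1 := by omega
  -- so `c` is `1` or a prime, at most `7`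
  have hc7 : c ≤ 7 := by
    rcases Nat.lt_or_ge c 2 with h' | h'
    · omega
    have hcp : c.Prime := by
      rw [← ArithmeticFunction.cardFactors_eq_one_iff_prime]
      have : 0 < ArithmeticFunction.cardFactors c :=
        Nat.pos_of_ne_zero fun e => by
          rcases ArithmeticFunction.cardFactors_eq_zero_iff_eq_zero_or_one.1 e with e | e <;> omega
      omega
    have hcd : c ∣ 5040 := ⟨d, by rw [hc]; ring⟩
    rw [show (5040 : ℕ) = 2 ^ 4 * 3 ^ 2 * 5 * 7 by norm_num] at hcd
    have hle7 : ∀ q : ℕ, q.Prime → q ≤ 7 → c ∣ q → c ≤ 7 := fun q hq h7 hd =>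
      ((Nat.prime_dvd_prime_iff_eq hcp hq).1 hd) ▸ h7
    rcases (hcp.dvd_mul).1 hcd with hd | hd
    · rcases (hcp.dvd_mul).1 hd with hd | hd
      · rcases (hcp.dvd_mul).1 hd with hd | hd
        · exact hle7 2 Nat.prime_two (by norm_num) (hcp.dvd_of_dvd_pow hd)
        · exact hle7 3 Nat.prime_three (by norm_num) (hcp.dvd_of_dvd_pow hd)
      · exact hle7 5 (by norm_num) (by norm_num) hd
    · exact hle7 7 (by norm_num) (by norm_num) hd
  have : d * c ≤ 512 * 7 := Nat.mul_le_mul hle hc7
  omega

section Primitive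

variable {n : ℕ} (ih : ∀ m < n, BoundAt m)
variable {G Ω : Type} [Group G] [Finite G] [Finite Ω] [MulAction G Ω] [FaithfulSMul G Ω]
variable [IsPretransitive G Ω]
include ih

theorem bound_affine (hn : Nat.card Ω = n) (hn2 : 2 ≤ n) (a : Ω) (N : Subgroup G) [N.Normal] (hN : N ≠ ⊥)
    (hmin : ∀ X : Subgroup G, X.Normal → X ≤ N → X = ⊥ ∨ X = N)
    (hab : ∀ x ∈ N, ∀ y ∈ N, x * y = y * x) (hgen : N ⊔ stabilizer G a = ⊤)
    (hreg : N ⊓ stabilizer G a = ⊥) : 3 * cl G + 4 ≤ 4 * n := by
  classical
  -- `N` is elementary abelian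
  obtain ⟨p, hp, hpd⟩ := Nat.exists_prime_and_dvd (show Nat.card N ≠ 1 from fun h =>
    hN (Subgroup.eq_bot_of_card_eq _ h))
  haveI := Fact.mk hp
  let Np : Subgroup G :=
    { carrier := {x | x ∈ N ∧ x ^ p = 1}
      one_mem' := ⟨N.one_mem, one_pow p⟩
      mul_mem' := fun {x y} hx hy => ⟨N.mul_mem hx.1 hy.1, by
        rw [Commute.mul_pow (hab x hx.1 y hy.1), hx.2, hy.2, one_mul]⟩
      inv_mem' := fun {x} hx => ⟨N.inv_mem hx.1, by rw [inv_pow, hx.2, inv_one]⟩ }
  have hNp : Np = N := by
    refine (hmin Np ⟨fun x hx g => ⟨‹N.Normal›.conj_mem x hx.1 g, by rw [conj_pow, hx.2]; group⟩⟩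
      fun x hx => hx.1).resolve_left fun h => ?_
    obtain ⟨y, hy⟩ := exists_prime_orderOf_dvd_card' p hpd
    have : (y : G) ∈ Np := ⟨y.2, by rw [← hy, ← SubgroupClass.coe_pow, pow_orderOf_eq_one, OneMemClass.coe_one]⟩
    rw [h, Subgroup.mem_bot] at this
    rw [show y = 1 from Subtype.ext this, orderOf_one] at hy
    exact hp.one_lt.ne hy
  have hexp : ∀ x ∈ N, x ^ p = 1 := fun x hx => by
    have h : x ∈ Np := hNp.symm ▸ hx
    exact h.2
  have hpN : IsPGroup p N := fun x => ⟨1, Subtype.ext (by simpa using hexp x x.2)⟩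
  have hex : ∀ x : Ω, ∃ m : N, (m : G) • a = x := by
    intro x
    obtain ⟨g, rfl⟩ := exists_smul_eq G a x
    obtain ⟨m, hm, h, hh, rfl⟩ := Subgroup.mem_sup_of_normal_left.1 (hgen ▸ Subgroup.mem_top g : g ∈ _)
    exact ⟨⟨m, hm⟩, by rw [mul_smul, mem_stabilizer_iff.1 hh]⟩
  have hcard : Nat.card N = n := by
    rw [← hn]
    refine Nat.card_congr (Equiv.ofBijective (fun m : N => (m : G) • a) ⟨fun m m' h => ?_, fun x => hex x⟩)
    have : (m' : G)⁻¹ * m ∈ N ⊓ stabilizer G a := ⟨N.mul_mem (N.inv_mem m'.2) m.2, by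
      show (m' : G)⁻¹ * m ∈ stabilizer G a
      rw [mem_stabilizer_iff, mul_smul, inv_smul_eq_iff]; exact h⟩
    rw [hreg, Subgroup.mem_bot, inv_mul_eq_one] at this
    exact Subtype.ext this.symm
  obtain ⟨e, he⟩ := IsPGroup.iff_card.1 hpN
  have hclN : cl N ≤ e := by
    have h := (stepLen_cl N).le_cardFactors
    rwa [Subgroup.card_top, he, ArithmeticFunction.cardFactors_apply_prime_pow hp] at h
  have he1 : 1 ≤ e := by
    by_contra h0
    rw [Nat.lt_one_iff.1 (Nat.lt_of_not_le h0), pow_zero] at he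
    exact hN (Subgroup.eq_bot_of_card_eq _ he)
  -- the stabiliser is small
  obtain ⟨s, hs, hscard⟩ := exists_gens N hpN
  have hse : s.card ≤ e := (Nat.pow_le_pow_iff_right hp.one_lt).1 (he ▸ hscard)
  have hH : Nat.card (stabilizer G a) ≤ (p ^ e) ^ e := by
    have hinj : Function.Injective (fun (h : stabilizer G a) (x : s) =>
        (⟨(h : G) * x * (h : G)⁻¹, ‹N.Normal›.conj_mem _ (hs ▸ Subgroup.subset_closure x.2) h⟩ : N)) := by
      intro h k hhk
      have hc : (k : G)⁻¹ * h ∈ Subgroup.centralizer (N : Set G) := by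
        rw [← hs, Subgroup.centralizer_closure]
        refine Subgroup.mem_centralizer_iff.2 fun x hx => ?_
        have h1 : (h : G) * x * (h : G)⁻¹ = k * x * (k : G)⁻¹ := congrArg Subtype.val (congrFun hhk ⟨x, hx⟩)
        calc x * ((k : G)⁻¹ * h) = (k : G)⁻¹ * (k * x * (k : G)⁻¹) * h := by group
          _ = (k : G)⁻¹ * h * x := by rw [← h1]; group
      refine Subtype.ext (inv_mul_eq_one.1 ?_).symm
      refine eq_of_smul_eq_smul (α := Ω) fun w => ?_
      obtain ⟨m, rfl⟩ := hex w
      rw [← mul_smul, ← Subgroup.mem_centralizer_iff.1 hc m m.2, mul_smul, mul_smul,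
        mem_stabilizer_iff.1 h.2, inv_smul_eq_iff.2 (mem_stabilizer_iff.1 k.2).symm, one_smul]
    refine (Nat.card_le_card_of_injective _ hinj).trans ?_
    rw [Nat.card_fun, he, Nat.card_eq_finsetCard]
    exact Nat.pow_le_pow_right (Nat.one_le_pow _ _ hp.pos) hse
  obtain ⟨r, hr1, hr, -⟩ := bound_stabilizer ih (G := G) hn a hn2
  set c := cl (stabilizer G a) with hc
  have hq : cl (G ⧸ N) ≤ c := by
    have hsur : Function.Surjective ((QuotientGroup.mk' N).comp (stabilizer G a).subtype) := by
      intro q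
      induction q using QuotientGroup.induction_on with
      | H g =>
        obtain ⟨h, hh, m, hm, rfl⟩ := Subgroup.mem_sup_of_normal_right.1
          ((sup_comm N (stabilizer G a)) ▸ hgen ▸ Subgroup.mem_top g : g ∈ stabilizer G a ⊔ N)
        exact ⟨⟨h, hh⟩, QuotientGroup.eq.2 (by simpa using hm)⟩
    rw [← cl_range_rangeRestrict _ hsur]
    exact range_cl_le _
  have h8 : p ^ e = 8 → c ≤ 6 := by
    intro h
    have h7 : Nat.card {x : Ω // x ≠ a} = 7 := by
      have : Nat.card {x : Ω // x ≠ a} + 1 = n := by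
        rw [← hn, ← Finite.card_option]
        exact Nat.card_congr (Equiv.optionSubtypeNe a)
      omega
    have hdvd : Nat.card (stabilizer G a) ∣ 5040 := by
      let X : SubMulAction (stabilizer G a) Ω :=
        ⟨{x | x ≠ a}, fun g x hx e => hx (smul_left_cancel (g : G) (e.trans (mem_stabilizer_iff.1 g.2).symm))⟩
      haveI : FaithfulSMul (stabilizer G a) X := ⟨fun {g k} e => by
        refine Subtype.ext (eq_of_smul_eq_smul (α := Ω) fun w => ?_)
        by_cases hw : w = a
        · subst hw
          rw [mem_stabilizer_iff.1 g.2, mem_stabilizer_iff.1 k.2]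
        · exact congrArg Subtype.val (e ⟨w, hw⟩)⟩
      have hd := Subgroup.card_dvd_of_injective (toPermHom (stabilizer G a) X)
        (MulAction.toPerm_injective)
      rwa [Nat.card_perm, show Nat.card X = 7 from h7, show Nat.factorial 7 = 5040 from rfl] at hd
    have hle : Nat.card (stabilizer G a) ≤ 512 := by
      have he3 : e = 3 := by
        have h23 : p ∣ 2 ^ 3 := by
          rw [show (2 : ℕ) ^ 3 = p ^ e by rw [h]; norm_num]
          exact dvd_pow_self p (by omega)
        have hp2 : p = 2 := (Nat.prime_dvd_prime_iff_eq hp Nat.prime_two).1 (hp.dvd_of_dvd_pow h23)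
        rw [hp2] at h
        exact Nat.pow_right_injective le_rfl (h.trans (by norm_num : (8 : ℕ) = 2 ^ 3))
      refine hH.trans ?_
      rw [h, he3]
      norm_num
    have h1 := (stepLen_cl (stabilizer G a)).le_cardFactors
    rw [Subgroup.card_top] at h1
    exact h1.trans (cardFactors_le_six _ (Nat.mem_divisors.2 ⟨hdvd, by norm_num⟩) hle)
  have harith := affine_arith (c := c) hp he1 (by rw [← he, hcard]; omega) ((pow_cl_le _).trans hH) h8
  have hG := cl_le_normal_add_quotient N
  rw [← hcard, he]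
  omega

end Primitive

section Socle

variable {n : ℕ} (ih : ∀ m < n, BoundAt m)
variable {G Ω : Type} [Group G] [Finite G] [Finite Ω] [MulAction G Ω] [FaithfulSMul G Ω]
variable [IsPretransitive G Ω]
include ih

theorem bound_nonabelian (hn : Nat.card Ω = n) (hn2 : 2 ≤ n) (a : Ω) {N M : Subgroup G} [N.Normal]
    (S : Setting N M) (hmin : ∀ X : Subgroup G, X.Normal → X ≤ N → X = ⊥ ∨ X = N)
    (hsup : ∀ X : Subgroup G, X.Normal → X ≠ ⊥ → X ⊔ stabilizer G a = ⊤) : 3 * cl G + 4 ≤ 4 * n := by
  classical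
  have := Fintype.ofFinite (Fac M)
  set H := stabilizer G a with hH
  set k := Nat.card (Fac M) with hk
  have hN : N ≠ ⊥ := fun h => S.factor.ne_bot (le_bot_iff.1 (h ▸ S.factor.le))
  have hgen := hsup N inferInstance hN
  have hdec : ∀ g : G, ∃ m ∈ N, ∃ h ∈ H, g = m * h := fun g => by
    obtain ⟨m, hm, h, hh, e⟩ := Subgroup.mem_sup_of_normal_left.1 (hgen.symm ▸ Subgroup.mem_top g : g ∈ _)
    exact ⟨m, hm, h, hh, e.symm⟩
  have hex : ∀ x : Ω, ∃ m : N, (m : G) • a = x := by
    intro x
    obtain ⟨g, rfl⟩ := exists_smul_eq G a x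
    obtain ⟨m, hm, h, hh, rfl⟩ := hdec g
    exact ⟨⟨m, hm⟩, by rw [mul_smul, mem_stabilizer_iff.1 hh]⟩
  -- the stabiliser permutes the factors transitively
  have htrans : ∀ F : Fac M, ∃ h ∈ H, mapFac h (base M) = F := by
    intro F
    obtain ⟨g, hg⟩ := F.2
    obtain ⟨m, hm, h, hh, rfl⟩ := hdec g
    refine ⟨h, hh, Subtype.ext ?_⟩
    rw [← hg, ← cj_cj]
    exact (cj_eq_of_mem (M := cj M h) fun y hy => S.normalized ⟨cj M h, h, rfl⟩ hm hy).symm
  have hmapbij : ∀ g : G, Function.Bijective (mapFac (M := M) g) := by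
    intro g
    refine ⟨fun F F' h => ?_, fun F => ⟨mapFac g⁻¹ F, Subtype.ext ?_⟩⟩
    · have h1 := congrArg (fun F : Fac M => cj F.1 g⁻¹) h
      simp only [mapFac, cj_cj, inv_mul_cancel, cj_one] at h1
      exact Subtype.ext h1
    · show cj (cj F.1 g⁻¹) g = F.1
      rw [cj_cj, mul_inv_cancel, cj_one]
  have hcardF : ∀ F : Fac M, Nat.card F.1 = Nat.card M := by
    intro F
    obtain ⟨g, hg⟩ := F.2
    rw [← hg]
    exact (Nat.card_congr (M.equivMapOfInjective _ (MulAut.conj g).injective).toEquiv).symm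
  have hnt : ∀ F : Fac M, ∃ x : F.1, x ≠ 1 := by
    intro F
    haveI : Nontrivial F.1 := by
      rw [← Finite.one_lt_card_iff_nontrivial, hcardF]
      exact (Subgroup.one_lt_card_iff_ne_bot M).2 S.factor.ne_bot
    exact exists_ne 1
  -- the point stabiliser in `N`
  set D := H.subgroupOf N with hD
  have hDindex : D.index = n := by
    haveI : IsPretransitive N Ω := ⟨fun x y => by
      obtain ⟨m, hm⟩ := hex x
      obtain ⟨m', hm'⟩ := hex y
      exact ⟨m' * m⁻¹, by rw [← hm, ← hm']; show ((m' * m⁻¹ : N) : G) • (m : G) • a = _; simp [← mul_smul]⟩⟩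
    rw [← hn, ← index_stabilizer_of_transitive N a]
    congr 1
  set ψ := (QuotientGroup.mk' N).comp H.subtype with hψ
  have hψsur : Function.Surjective ψ := by
    intro q
    induction q using QuotientGroup.induction_on with
    | H g =>
      obtain ⟨m, hm, h, hh, rfl⟩ := hdec g
      refine ⟨⟨h, hh⟩, QuotientGroup.eq.2 ?_⟩
      simpa [mul_assoc] using (inferInstance : N.Normal).conj_mem m hm h⁻¹
  have hG := cl_le_normal_add_quotient N
  have hclN := S.cl_le_card
  have hψc := cl_ker_add_range_le ψ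
  rw [cl_range_rangeRestrict _ hψsur] at hψc
  obtain ⟨r, hr1, hr, horbit⟩ := bound_stabilizer ih (G := G) hn a hn2
  change 3 * cl H + 4 * r ≤ 4 * (n - 1) at hr
  by_cases hD1 : D = ⊥
  · -- regular case: the stabiliser has an orbit for each size of support
    have hreg : ∀ m m' : N, (m : G) • a = (m' : G) • a → m = m' := by
      intro m m' h
      have : m'⁻¹ * m ∈ D := by
        rw [hD, Subgroup.mem_subgroupOf, hH, mem_stabilizer_iff]
        show ((m' : G)⁻¹ * m) • a = a
        rw [mul_smul, inv_smul_eq_iff]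
        exact h
      rw [hD1, Subgroup.mem_bot, inv_mul_eq_one] at this
      exact this.symm
    choose nv hnv using hex
    let supp : N → ℕ := fun m => (Finset.univ.filter fun F : Fac M => S.proj F m ≠ 1).card
    have hsupp0 : ∀ m : N, supp m = 0 → m = 1 := fun m h => S.ext_one fun F => by
      by_contra hF
      exact absurd (Finset.card_eq_zero.1 h) (Finset.ne_empty_of_mem
        (Finset.mem_filter.2 ⟨Finset.mem_univ F, hF⟩))
    have hlt : ∀ x : {x : Ω // x ≠ a}, supp (nv x.1) - 1 < k := by
      intro x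
      have h1 : supp (nv x.1) ≤ k := by
        rw [hk, Nat.card_eq_fintype_card]; exact Finset.card_le_univ _
      have h2 : supp (nv x.1) ≠ 0 := fun h => x.2 (by
        have := hnv x.1
        rw [hsupp0 _ h, OneMemClass.coe_one, one_smul] at this
        exact this.symm)
      omega
    let φ : {x : Ω // x ≠ a} → Fin k := fun x => ⟨supp (nv x.1) - 1, hlt x⟩
    have hφs : Function.Surjective φ := by
      intro j
      obtain ⟨s, -, hs⟩ := Finset.exists_subset_card_eq (s := (Finset.univ : Finset (Fac M))) (n := j.1 + 1)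
        (by rw [Finset.card_univ, ← Nat.card_eq_fintype_card, ← hk]; exact j.2)
      choose x hx using hnt
      obtain ⟨m, hm⟩ := S.exists_of_components fun F => if F ∈ s then x F else 1
      have hsm : supp m = j.1 + 1 := by
        rw [← hs]
        show (Finset.univ.filter fun F : Fac M => S.proj F m ≠ 1).card = s.card
        congr 1
        ext F
        rw [Finset.mem_filter, hm F]
        by_cases h : F ∈ s <;> simp [h, hx F]
      have hne : (m : G) • a ≠ a := by
        intro h
        have : m = 1 := hreg m 1 (by rw [OneMemClass.coe_one, one_smul]; exact h)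
        have h0 : supp (1 : N) = 0 := by simp [supp]
        rw [this, h0] at hsm
        omega
      refine ⟨⟨_, hne⟩, Fin.ext ?_⟩
      show supp (nv ((m : G) • a)) - 1 = j.1
      rw [hreg _ m (hnv _), hsm]
      omega
    have hφi : ∀ (h : H) (x : {x : Ω // x ≠ a}) (hx : (h : G) • (x : Ω) ≠ a), φ ⟨_, hx⟩ = φ x := by
      intro h x hx
      refine Fin.ext ?_
      show supp (nv ((h : G) • (x : Ω))) - 1 = supp (nv x.1) - 1
      have he : nv ((h : G) • (x : Ω)) =
          ⟨(h : G) * nv x.1 * (h : G)⁻¹, (inferInstance : N.Normal).conj_mem _ (nv x.1).2 h⟩ := by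
        refine hreg _ _ ?_
        rw [hnv, mul_smul, mul_smul, inv_smul_eq_iff.2 (mem_stabilizer_iff.1 h.2).symm, hnv]
      congr 1
      rw [he]
      refine (Finset.card_nbij (fun F => mapFac (h : G) F) ?_ ?_ ?_).symm
      · intro F hF
        obtain ⟨-, hF⟩ := Finset.mem_filter.1 hF
        refine Finset.mem_filter.2 ⟨Finset.mem_univ _, fun e => hF (Subtype.ext ?_)⟩
        have h1 := S.proj_conj F (h : G) (nv x.1)
          ⟨(h : G) * nv x.1 * (h : G)⁻¹, (inferInstance : N.Normal).conj_mem _ (nv x.1).2 h⟩ rfl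
        rw [e, OneMemClass.coe_one] at h1
        rw [OneMemClass.coe_one]
        calc (S.proj F (nv x.1) : G) = (h : G)⁻¹ * ((h : G) * S.proj F (nv x.1) * (h : G)⁻¹) * h := by group
          _ = 1 := by rw [← h1]; group
      · exact fun F _ F' _ e => (hmapbij _).1 e
      · intro F hF
        obtain ⟨F', rfl⟩ := (hmapbij (h : G)).2 F
        refine ⟨F', Finset.mem_coe.2 (Finset.mem_filter.2 ⟨Finset.mem_univ _, fun e => ?_⟩), rfl⟩
        obtain ⟨-, hF⟩ := Finset.mem_filter.1 (Finset.mem_coe.1 hF)
        refine hF (Subtype.ext ?_)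
        rw [S.proj_conj F' (h : G) (nv x.1) _ rfl, e, OneMemClass.coe_one]
        simp
    have hkr := horbit (Fin k) φ hφs hφi
    rw [Nat.card_fin] at hkr
    omega
  -- now `N` is the unique minimal normal subgroup
  have hC : Subgroup.centralizer (N : Set G) = ⊥ := by
    by_contra hC
    refine hD1 (eq_bot_iff.2 fun d hd => ?_)
    haveI : (Subgroup.centralizer (N : Set G)).Normal := Subgroup.normal_centralizer
    rw [Subgroup.mem_bot]
    refine Subtype.ext (eq_of_smul_eq_smul (α := Ω) fun w => ?_)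
    obtain ⟨g, rfl⟩ := exists_smul_eq G a w
    obtain ⟨c, hc, h, hh, rfl⟩ := Subgroup.mem_sup_of_normal_left.1
      ((hsup _ inferInstance hC).symm ▸ Subgroup.mem_top g : g ∈ _)
    rw [mul_smul, mem_stabilizer_iff.1 hh, OneMemClass.coe_one, one_smul, ← mul_smul,
      (Subgroup.mem_centralizer_iff.1 hc (d : G) d.2), mul_smul,
      mem_stabilizer_iff.1 (Subgroup.mem_subgroupOf.1 hd)]
  have hkerne : 1 ≤ cl ψ.ker := by
    obtain ⟨d, hd, hd1⟩ := D.bot_or_exists_ne_one.resolve_left hD1
    haveI : Nontrivial ψ.ker := ⟨⟨⟨⟨(d : G), Subgroup.mem_subgroupOf.1 hd⟩, by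
      rw [hψ, MonoidHom.mem_ker]
      exact (QuotientGroup.eq_one_iff _).2 d.2⟩, 1, fun e => hd1 (Subtype.ext
        (congrArg (fun z : ψ.ker => ((z : H) : G)) e))⟩⟩
    exact one_le_cl
  rcases Nat.lt_or_ge k 3 with hk3 | hk3
  · omega
  -- images of the stabiliser in the factors
  let R : ∀ F : Fac M, Subgroup F.1 := fun F => D.map (S.proj F)
  have hRmem : ∀ (h : G), h ∈ H → ∀ (F : Fac M) (x : F.1), x ∈ R F →
      ∃ d ∈ D, ((S.proj (mapFac h F) d : (mapFac h F).1) : G) = h * x * h⁻¹ := by
    rintro h hh F x ⟨d, hd, rfl⟩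
    exact ⟨⟨h * d * h⁻¹, (inferInstance : N.Normal).conj_mem _ d.2 h⟩,
      H.mul_mem (H.mul_mem hh hd) (H.inv_mem hh), S.proj_conj F h d _ rfl⟩
  have hRconj : ∀ (h : G), h ∈ H → ∀ (F : Fac M),
      ((R (mapFac h F)).map (mapFac h F).1.subtype) = cj ((R F).map F.1.subtype) h := by
    intro h hh F
    apply le_antisymm
    · rintro _ ⟨y, ⟨d, hd, rfl⟩, rfl⟩
      have hmem : h⁻¹ * (d : G) * h ∈ N := by simpa using (inferInstance : N.Normal).conj_mem (d : G) d.2 h⁻¹
      rw [mem_cj]
      refine ⟨S.proj F ⟨_, hmem⟩, ⟨⟨_, hmem⟩, H.mul_mem (H.mul_mem (H.inv_mem hh) hd) hh, rfl⟩, ?_⟩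
      rw [Subgroup.coe_subtype, Subgroup.coe_subtype,
        S.proj_conj F h ⟨_, hmem⟩ d (by simp [mul_assoc])]
      group
    · rintro z hz
      obtain ⟨x, hx, hxe⟩ := mem_cj.1 hz
      obtain ⟨d, hd, hde⟩ := hRmem h hh F x hx
      refine ⟨S.proj (mapFac h F) d, ⟨d, hd, rfl⟩, ?_⟩
      rw [Subgroup.coe_subtype, hde, show (x : G) = h⁻¹ * z * h from hxe]
      group
  have hRindex : ∀ F : Fac M, (R F).index = (R (base M)).index := by
    intro F
    obtain ⟨h, hh, rfl⟩ := htrans F
    have h1 : Nat.card (R (mapFac h (base M))) = Nat.card (R (base M)) := by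
      rw [← Subgroup.card_map_of_injective (mapFac h (base M)).1.subtype_injective, hRconj h hh,
        ← Subgroup.card_map_of_injective (base M).1.subtype_injective]
      exact (Nat.card_congr (Subgroup.equivMapOfInjective _ _ (MulAut.conj h).injective).toEquiv).symm
    have h2 := Subgroup.card_mul_index (R (mapFac h (base M)))
    rw [h1, hcardF] at h2
    have h3 := Subgroup.card_mul_index (R (base M))
    rw [hcardF] at h3
    exact Nat.eq_of_mul_eq_mul_left Nat.card_pos (h2.trans h3.symm)
  by_cases hR : R (base M) = ⊤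
  · -- diagonal case
    have hRtop : ∀ F, R F = ⊤ := fun F =>
      Subgroup.index_eq_one.1 ((hRindex F).trans (Subgroup.index_eq_one.2 hR))
    set t := Nat.card M with ht
    obtain ⟨⟨x, hxM⟩, hx1⟩ := hnt (base M)
    have hx1' : x ≠ 1 := fun h => hx1 (Subtype.ext h)
    -- a large set of factors meeting the stabiliser trivially
    obtain ⟨U, hU, hUmax⟩ := (Set.toFinite {U : Finset (Fac M) | D ⊓ S.supported (U : Set (Fac M)) = ⊥}).exists_maximal
      ⟨∅, eq_bot_iff.2 fun d hd => Subgroup.mem_bot.2 (S.ext_one fun F => S.mem_supported.1 hd.2 F (by simp))⟩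
    have hU : D ⊓ S.supported (U : Set (Fac M)) = ⊥ := hU
    have hfactor : ∀ F : Fac M, ¬ F.1 ≤ H := by
      intro F hF
      obtain ⟨h₀, hh₀, hF₀⟩ := htrans F
      have hall : ∀ E : Fac M, E.1 ≤ H := by
        intro E z hz
        obtain ⟨h₁, hh₁, rfl⟩ := htrans E
        rw [mem_mapFac] at hz
        have h2 := hF (show h₀ * (h₁⁻¹ * z * h₁) * h₀⁻¹ ∈ F.1 by rw [← hF₀]; exact conj_mem_mapFac hz)
        have h3 := H.mul_mem (H.mul_mem (H.mul_mem hh₁ (H.inv_mem hh₀)) h2) (H.mul_mem hh₀ (H.inv_mem hh₁))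
        simpa [mul_assoc] using h3
      have hNH : N ≤ H := by
        intro m hm
        obtain ⟨u, hu, c, hc, rfl⟩ := S.factor.decomp m hm
        refine H.mul_mem (hall (base M) hu) ((Subgroup.closure_le H).2 ?_ hc)
        rintro w ⟨g, -, hw⟩
        exact hall ⟨cj M g, g, rfl⟩ hw
      refine hN (eq_bot_iff.2 fun m hm => Subgroup.mem_bot.2 (eq_of_smul_eq_smul (α := Ω) fun w => ?_))
      obtain ⟨g, rfl⟩ := exists_smul_eq G a w
      have h4 := mem_stabilizer_iff.1 (hNH ((inferInstance : N.Normal).conj_mem m hm g⁻¹))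
      rw [mul_smul, mul_smul, inv_inv, inv_smul_eq_iff] at h4
      rw [one_smul]
      exact h4
    have hDconj : ∀ s : Set (Fac M), ∀ e ∈ D, ∀ d ∈ D ⊓ S.supported s, e * d * e⁻¹ ∈ D ⊓ S.supported s :=
      fun s e he d hd => ⟨D.mul_mem (D.mul_mem he hd.1) (D.inv_mem he), (S.supported_normal s).conj_mem d hd.2 e⟩
    have hout : ∀ F : Fac M, F ∉ U → ∃ u ∈ U,
        (D ⊓ S.supported ((insert F U : Finset (Fac M)) : Set (Fac M))).map (S.proj u) = ⊤ := by
      intro F hF
      by_contra hcon
      push Not at hcon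
      obtain ⟨d, hd, hd1⟩ := (D ⊓ S.supported ((insert F U : Finset (Fac M)) : Set (Fac M))).bot_or_exists_ne_one.resolve_left
        fun h => hF (hUmax h (Finset.subset_insert F U) (Finset.mem_insert_self F U))
      have hdF : ∀ E, E ≠ F → S.proj E d = 1 := by
        intro E hE
        by_cases hEU : E ∈ U
        · have h5 := (S.map_proj_eq E (hRtop E) (hDconj _)).resolve_right (hcon E hEU)
          exact Subgroup.mem_bot.1 (h5 ▸ ⟨d, hd, rfl⟩ : S.proj E d ∈ (⊥ : Subgroup E.1))
        · exact S.mem_supported.1 hd.2 E (by simp [hEU, hE])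
      have hsing : ∀ e ∈ D ⊓ S.supported ({F} : Set (Fac M)), ∀ E, E ≠ F → S.proj E e = 1 :=
        fun e he E hE => S.mem_supported.1 he.2 E hE
      have himg : (D ⊓ S.supported ({F} : Set (Fac M))).map (S.proj F) = ⊤ := by
        refine (S.map_proj_eq F (hRtop F) (hDconj _)).resolve_left fun h5 => hd1 (S.ext_one fun E => ?_)
        by_cases hE : E = F
        · subst hE
          exact Subgroup.mem_bot.1 (h5 ▸ ⟨d, ⟨hd.1, S.mem_supported.2 fun E' hE' => hdF E' hE'⟩, rfl⟩)
        · exact hdF E hE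
      refine hfactor F fun z hz => ?_
      obtain ⟨e, he, hez⟩ := himg.ge (Subgroup.mem_top (⟨z, hz⟩ : F.1))
      have : e = ⟨z, S.le F hz⟩ := S.ext fun E => by
        by_cases hE : E = F
        · subst hE; rw [hez, S.proj_self]
        · rw [hsing e he E hE, S.proj_other E F hE hz]
      rw [this] at he
      exact Subgroup.mem_subgroupOf.1 he.1
    choose uF huU huF using hout
    have hUk : k ≤ 2 * U.card := by
      have hinj : ∀ F F' (hF : F ∉ U) (hF' : F' ∉ U), uF F hF = uF F' hF' → F = F' := by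
        intro F F' hF hF' he
        by_contra hne
        obtain ⟨⟨y, hyu⟩, hy1⟩ := hnt (uF F hF)
        refine hy1 (Subtype.ext (S.centre_eq_one (uF F hF) hyu fun w hw => ?_))
        obtain ⟨d, hd, hdy⟩ := (huF F hF).ge (Subgroup.mem_top ⟨y, hyu⟩)
        obtain ⟨d', hd', hdw⟩ := (he ▸ huF F' hF' :
          (D ⊓ S.supported ((insert F' U : Finset (Fac M)) : Set (Fac M))).map (S.proj (uF F hF)) = ⊤).ge
            (Subgroup.mem_top ⟨w, hw⟩)
        have hcom : d * d' * d⁻¹ * d'⁻¹ = 1 := by
          have : d * d' * d⁻¹ * d'⁻¹ ∈ D ⊓ S.supported (U : Set (Fac M)) := by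
            refine ⟨D.mul_mem (D.mul_mem (D.mul_mem hd.1 hd'.1) (D.inv_mem hd.1)) (D.inv_mem hd'.1),
              S.mem_supported.2 fun E hE => ?_⟩
            simp only [map_mul, map_inv]
            by_cases hEF : E = F
            · rw [S.mem_supported.1 hd'.2 E (by subst hEF; simp [Finset.mem_coe] at hE ⊢; exact ⟨hne, hE⟩)]
              simp
            · rw [S.mem_supported.1 hd.2 E (by simp at hE ⊢; exact ⟨hEF, hE⟩)]
              simp
          rwa [hU, Subgroup.mem_bot] at this
        have h6 : d * d' = d' * d := by rwa [mul_inv_eq_one, mul_inv_eq_iff_eq_mul] at hcom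
        have h7 := congrArg (fun z : N => ((S.proj (uF F hF) z : (uF F hF).1) : G)) h6
        simpa [map_mul, hdy, hdw] using h7
      have h8 : Uᶜ.card ≤ U.card :=
        Finset.card_le_card_of_injOn (fun F => if hF : F ∈ U then F else uF F hF)
          (fun F hF => by
            have hF' : F ∉ U := Finset.mem_compl.1 hF
            simp only [dif_neg hF']
            exact huU F hF')
          (fun F hF F' hF' e => by
            have h1 : F ∉ U := Finset.mem_compl.1 hF
            have h2 : F' ∉ U := Finset.mem_compl.1 hF'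
            simp only [dif_neg h1, dif_neg h2] at e
            exact hinj F F' h1 h2 e)
      rw [Finset.card_compl, ← Nat.card_eq_fintype_card, ← hk] at h8
      omega
    have hbig : t ^ U.card ≤ n := by
      let res : S.supported (U : Set (Fac M)) → (∀ F : U, F.1.1) := fun m F => S.proj F.1 m.1
      have h1 : Nat.card (∀ F : U, F.1.1) ≤ Nat.card (S.supported (U : Set (Fac M))) := by
        refine Nat.card_le_card_of_surjective res fun f => ?_
        obtain ⟨m, hm⟩ := S.exists_of_components fun F => if hF : F ∈ U then f ⟨F, hF⟩ else 1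
        exact ⟨⟨m, S.mem_supported.2 fun F hF => by rw [hm, dif_neg]; exact hF⟩, funext fun F => by
          simp only [res]; rw [hm, dif_pos F.2]⟩
      rw [Nat.card_pi, Finset.prod_eq_pow_card (s := Finset.univ) (fun F _ => hcardF F.1), Finset.card_univ,
        Fintype.card_coe] at h1
      refine h1.trans ?_
      rw [← hDindex]
      refine Nat.card_le_card_of_injective (fun m : S.supported (U : Set (Fac M)) => ((m : N) : N ⧸ D)) ?_
      intro m m' h
      have h2 : (m : N)⁻¹ * m' ∈ D ⊓ S.supported (U : Set (Fac M)) :=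
        ⟨QuotientGroup.eq.1 h, (S.supported _).mul_mem ((S.supported _).inv_mem m.2) m'.2⟩
      rw [hU, Subgroup.mem_bot, inv_mul_eq_one] at h2
      exact Subtype.ext h2
    set W := Subgroup.centralizer ({x} : Set G) with hW
    have hNW : ¬ N ≤ W := fun h => hx1' (S.centre_eq_one (base M) hxM fun y hy =>
      (Subgroup.mem_centralizer_singleton_iff.1 (h (S.le _ hy))).symm)
    have hWindex : W.index ≤ k * t := by
      have h1 : W.index ≤ Nat.card (Σ F : Fac M, F.1) := by
        refine Nat.card_le_card_of_injective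
          (fun q : G ⧸ W => (⟨mapFac q.out (base M), ⟨q.out * x * q.out⁻¹, conj_mem_mapFac hxM⟩⟩ : Σ F : Fac M, F.1)) ?_
        intro q q' h
        have h2 : q.out * x * q.out⁻¹ = q'.out * x * q'.out⁻¹ :=
          congrArg (fun z : Σ F : Fac M, F.1 => (z.2 : G)) h
        rw [← q.out_eq', ← q'.out_eq']
        refine QuotientGroup.eq.2 ?_
        refine Subgroup.mem_centralizer_singleton_iff.2 ?_
        calc q.out⁻¹ * q'.out * x = q.out⁻¹ * (q'.out * x * q'.out⁻¹) * q'.out := by group
          _ = x * (q.out⁻¹ * q'.out) := by rw [← h2]; group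
      rw [Nat.card_sigma, Finset.sum_const_nat (fun F _ => hcardF F), Finset.card_univ,
        ← Nat.card_eq_fintype_card, ← hk] at h1
      exact h1
    have ht5 : 5 ≤ t := by
      have hnc : ¬ ∀ y ∈ M, ∀ z ∈ M, y * z = z * y := fun h =>
        hx1' (S.centre_eq_one (base M) hxM fun y hy => h x hxM y hy)
      by_contra h5
      apply hnc
      intro y hy z hz
      have hcomm : IsMulCommutative M := by
        have ht1 : 1 < t := (Subgroup.one_lt_card_iff_ne_bot M).2 S.factor.ne_bot
        interval_cases t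
        · haveI := Fact.mk Nat.prime_two
          haveI := isCyclic_of_prime_card (α := M) ht.symm
          infer_instance
        · haveI := Fact.mk Nat.prime_three
          haveI := isCyclic_of_prime_card (α := M) ht.symm
          infer_instance
        · haveI := Fact.mk Nat.prime_two
          exact IsPGroup.isMulCommutative_of_card_eq_prime_sq (p := 2) (by rw [← ht]; norm_num)
      exact congrArg Subtype.val (hcomm.is_comm.comm (⟨y, hy⟩ : M) ⟨z, hz⟩)
    have hkt : k * t < n := by
      obtain ⟨u, hu⟩ : ∃ u, U.card = u + 2 := ⟨U.card - 2, by omega⟩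
      rw [hu] at hUk hbig
      have hpow : ∀ u : ℕ, 2 * (u + 2) * t < t ^ (u + 2) := by
        intro u
        induction u with
        | zero => norm_num; nlinarith
        | succ u ihu =>
          have : 2 * (u + 1 + 2) * t ≤ (2 * (u + 2) * t) * 2 := by nlinarith
          calc 2 * (u + 1 + 2) * t ≤ (2 * (u + 2) * t) * 2 := this
            _ < t ^ (u + 2) * 2 := by omega
            _ ≤ t ^ (u + 2) * t := Nat.mul_le_mul_left _ (by omega)
            _ = t ^ (u + 1 + 2) := by ring
      calc k * t ≤ 2 * (u + 2) * t := Nat.mul_le_mul_right t hUk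
        _ < t ^ (u + 2) := hpow u
        _ ≤ n := hbig
    have := bound_coset ih N W hmin hC hNW (lt_of_le_of_lt hWindex hkt)
    omega
  · -- product case
    set R0 := (R (base M)).map (base M).1.subtype with hR0
    set m := (R (base M)).index with hm
    have hRne : R (base M) ≠ ⊥ := by
      intro h
      refine hD1 (eq_bot_iff.2 fun d hd => Subgroup.mem_bot.2 (S.ext_one fun F => ?_))
      obtain ⟨h0, hh0, rfl⟩ := htrans F
      have h1 : (R (mapFac h0 (base M))).map (mapFac h0 (base M)).1.subtype = ⊥ := by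
        rw [hRconj h0 hh0, h, Subgroup.map_bot]; exact Subgroup.map_bot _
      rw [Subgroup.map_eq_bot_iff_of_injective _ (Subgroup.subtype_injective _)] at h1
      exact Subgroup.mem_bot.1 (h1 ▸ ⟨d, hd, rfl⟩)
    have hnotnormal : ¬ (R (base M)).Normal := fun hnor => by
      rcases S.map_proj_eq (base M) (D := (R (base M)).comap (S.proj (base M))) (E := ⊤)
        (Subgroup.map_top_of_surjective _ (S.proj_surjective _))
        (fun e _ d hd => (hnor.comap _).conj_mem d hd e) with h | h <;>
        rw [Subgroup.map_comap_eq_self_of_surjective (S.proj_surjective _)] at h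
      · exact hRne h
      · exact hR h
    have hm3 : 3 ≤ m := by
      have h0 : m ≠ 0 := Subgroup.index_ne_zero_of_finite
      have h1 : m ≠ 1 := fun h => hR (Subgroup.index_eq_one.1 h)
      have h2 : m ≠ 2 := fun h => hnotnormal (Subgroup.normal_of_index_eq_two h)
      omega
    have hbig : m ^ k ≤ n := by
      have hi : ∀ F : Fac M, Nat.card (F.1 ⧸ R F) = m := fun F => hRindex F
      rw [← hDindex, hk, Nat.card_eq_fintype_card, ← Finset.card_univ,
        ← Finset.prod_eq_pow_card (s := (Finset.univ : Finset (Fac M))) (fun F _ => hi F), ← Nat.card_pi]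
      refine Nat.card_le_card_of_surjective (fun q : N ⧸ D => fun F => Quotient.liftOn' q
        (fun e => (S.proj F e : F.1 ⧸ R F)) fun e e' hee => ?_) ?_
      · refine QuotientGroup.eq.2 ⟨e⁻¹ * e', QuotientGroup.leftRel_apply.1 hee, ?_⟩
        rw [map_mul, map_inv]
      · intro f
        obtain ⟨e, he⟩ := S.exists_of_components fun F => (f F).out
        refine ⟨(e : N ⧸ D), funext fun F => ?_⟩
        show ((S.proj F e : F.1) : F.1 ⧸ R F) = f F
        rw [he]
        exact (f F).out_eq'
    set W := Subgroup.normalizer (R0 : Set G) with hW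
    have hNW : ¬ N ≤ W := fun h => hnotnormal ⟨fun y hy z => by
      have hz : (z : G) ∈ W := h (S.le _ z.2)
      obtain ⟨y', hy', hye⟩ := (Subgroup.mem_normalizer_iff.1 hz (y : G)).1 ⟨y, hy, rfl⟩
      have : y' = z * y * z⁻¹ := Subtype.ext (by simpa using hye)
      exact this ▸ hy'⟩
    have hWindex : W.index ≤ k * m := by
      let Φ : (Σ F : Fac M, F.1 ⧸ R F) → Subgroup G := fun w =>
        cj ((R w.1).map w.1.1.subtype) (w.2.out : G)
      have hcov : ∀ g : G, ∃ w, Φ w = cj R0 g := by
        intro g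
        obtain ⟨e, he, h, hh, rfl⟩ := hdec g
        set F := mapFac h (base M) with hF
        set y := S.proj F ⟨e, he⟩
        refine ⟨⟨F, (y : F.1 ⧸ R F)⟩, ?_⟩
        obtain ⟨r, hr⟩ := QuotientGroup.mk_out_eq_mul (R F) y
        show cj ((R F).map F.1.subtype) ((QuotientGroup.mk y : F.1 ⧸ R F).out : G) = _
        rw [← cj_cj R0 h e, hR0, ← hRconj h hh, ← hF, hr, Subgroup.coe_mul, ← cj_cj]
        rw [show cj ((R F).map F.1.subtype) (((r : R F) : F.1) : G) = (R F).map F.1.subtype from
          cj_eq_of_mem fun z hz => by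
            have hrm : (((r : R F) : F.1) : G) ∈ (R F).map F.1.subtype := ⟨_, r.2, rfl⟩
            exact ((R F).map F.1.subtype).mul_mem (((R F).map F.1.subtype).mul_mem hrm hz)
              (((R F).map F.1.subtype).inv_mem hrm)]
        ext z
        rw [mem_cj, mem_cj]
        constructor
        · intro hz
          obtain ⟨v, hv, hve⟩ := hz
          have hz' : (v : G) = (y : G)⁻¹ * z * y := hve
          have h9 := S.proj_spec F ⟨e, he⟩ v.2
          rw [hz'] at h9
          have : e⁻¹ * z * e = (y : G)⁻¹ * z * y := by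
            calc e⁻¹ * z * e = e⁻¹ * ((y : G) * ((y : G)⁻¹ * z * y) * (y : G)⁻¹) * e := by group
              _ = e⁻¹ * (e * ((y : G)⁻¹ * z * y) * e⁻¹) * e := by rw [← h9]
              _ = _ := by group
          rw [this, ← hz']
          exact ⟨v, hv, rfl⟩
        · intro hz
          obtain ⟨v, hv, hve⟩ := hz
          have hz' : (v : G) = e⁻¹ * z * e := hve
          have h9 := S.proj_spec F ⟨e, he⟩ v.2
          rw [hz'] at h9
          have : (y : G)⁻¹ * z * y = e⁻¹ * z * e := by
            calc (y : G)⁻¹ * z * y = (y : G)⁻¹ * (e * (e⁻¹ * z * e) * e⁻¹) * y := by group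
              _ = (y : G)⁻¹ * ((y : G) * (e⁻¹ * z * e) * (y : G)⁻¹) * y := by rw [h9]
              _ = _ := by group
          rw [this, ← hz']
          exact ⟨v, hv, rfl⟩
      choose w hw using hcov
      have h1 : W.index ≤ Nat.card (Σ F : Fac M, F.1 ⧸ R F) := by
        refine Nat.card_le_card_of_injective (fun q : G ⧸ W => w q.out) fun q q' h => ?_
        have h2 : cj R0 q.out = cj R0 q'.out := by rw [← hw, ← hw]; exact congrArg Φ h
        rw [← q.out_eq', ← q'.out_eq']
        refine QuotientGroup.eq.2 ?_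
        refine Subgroup.mem_normalizer_iff_map_conj_eq.2 ?_
        show cj R0 (q.out⁻¹ * q'.out) = R0
        rw [← cj_cj, ← h2, cj_cj, inv_mul_cancel, cj_one]
      have hi' : ∀ F : Fac M, Nat.card (F.1 ⧸ R F) = m := hRindex
      rw [Nat.card_sigma, Finset.sum_const_nat (fun F _ => hi' F),
        Finset.card_univ, ← Nat.card_eq_fintype_card, ← hk] at h1
      exact h1
    have hkm : k * m < n := by
      obtain ⟨u, hu⟩ : ∃ u, k = u + 3 := ⟨k - 3, by omega⟩
      rw [hu] at hbig ⊢
      have hpow : ∀ u : ℕ, (u + 3) * m < m ^ (u + 3) := by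
        intro u
        induction u with
        | zero => norm_num [pow_succ]; nlinarith [Nat.mul_le_mul hm3 hm3]
        | succ u ihu =>
          calc (u + 1 + 3) * m ≤ ((u + 3) * m) * 2 := by nlinarith
            _ < m ^ (u + 3) * 2 := by omega
            _ ≤ m ^ (u + 3) * m := Nat.mul_le_mul_left _ (by omega)
            _ = m ^ (u + 1 + 3) := by ring
      exact lt_of_lt_of_le (hpow u) hbig
    have := bound_coset ih N W hmin hC hNW (lt_of_le_of_lt hWindex hkm)
    omega

end Socle

theorem boundAt : ∀ n, BoundAt n := by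
  intro n
  induction n using Nat.strong_induction_on with
  | _ n ih =>
    intro G Ω _ _ _ _ _ hn
    classical
    rcases Nat.lt_or_ge n 2 with hn2 | hn2
    · haveI : Subsingleton Ω := Finite.card_le_one_iff_subsingleton.1 (by omega)
      haveI : Subsingleton G := ⟨fun g h => eq_of_smul_eq_smul (α := Ω) fun _ => Subsingleton.elim _ _⟩
      rw [cl_eq_zero]
      have : orb G Ω ≤ Nat.card Ω := Nat.card_le_card_of_surjective _ Quotient.mk''_surjective
      omega
    by_cases htr : IsPretransitive G Ω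
    swap
    · exact bound_intransitive ih hn htr
    haveI : Nonempty Ω := Finite.card_pos_iff.1 (by omega)
    obtain ⟨a⟩ := ‹Nonempty Ω›
    have horb : orb G Ω = 1 := by
      refine le_antisymm ?_ (orb_pos G Ω)
      haveI : Subsingleton (orbitRel.Quotient G Ω) := ⟨fun p q => by
        induction p, q using Quotient.inductionOn₂' with
        | h x y =>
          obtain ⟨g, hg⟩ := exists_smul_eq G y x
          exact Quotient.sound' ⟨g, hg⟩⟩
      exact Finite.card_le_one_iff_subsingleton.2 inferInstance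
    rw [horb, mul_one]
    by_cases himp : ∃ W, stabilizer G a < W ∧ W < ⊤
    · obtain ⟨W, hW1, hW2⟩ := himp
      exact bound_imprimitive ih hn a W hW1 hW2
    have hmax : ∀ W, stabilizer G a ≤ W → W = stabilizer G a ∨ W = ⊤ := fun W hW => by
      rcases hW.eq_or_lt with h | h
      · exact Or.inl h.symm
      · exact Or.inr (by_contra fun h' => himp ⟨W, h, lt_top_iff_ne_top.2 h'⟩)
    have hsup : ∀ X : Subgroup G, X.Normal → X ≠ ⊥ → X ⊔ stabilizer G a = ⊤ := by
      intro X hX hX1
      refine (hmax _ le_sup_right).resolve_left fun h => hX1 ?_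
      have hle : X ≤ stabilizer G a := h ▸ le_sup_left
      refine eq_bot_iff.2 fun x hx => Subgroup.mem_bot.2 (eq_of_smul_eq_smul (α := Ω) fun w => ?_)
      obtain ⟨g, rfl⟩ := exists_smul_eq G a w
      have h4 := mem_stabilizer_iff.1 (hle (hX.conj_mem x hx g⁻¹))
      rw [mul_smul, mul_smul, inv_inv, inv_smul_eq_iff] at h4
      rw [one_smul]
      exact h4
    haveI : Nontrivial G := by
      haveI : Nontrivial Ω := Finite.one_lt_card_iff_nontrivial.1 (by omega)
      obtain ⟨b, hb⟩ := exists_ne a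
      obtain ⟨g, hg⟩ := exists_smul_eq G a b
      exact ⟨⟨g, 1, fun e => hb (by rw [← hg, e, one_smul])⟩⟩
    obtain ⟨N, ⟨hNn, hN1⟩, hNmin⟩ := (Set.toFinite {N : Subgroup G | N.Normal ∧ N ≠ ⊥}).exists_minimal
      ⟨⊤, inferInstance, top_ne_bot⟩
    haveI : N.Normal := hNn
    have hmin : ∀ X : Subgroup G, X.Normal → X ≤ N → X = ⊥ ∨ X = N := fun X hX hXN =>
      or_iff_not_imp_left.2 fun h => le_antisymm hXN (hNmin ⟨hX, h⟩ hXN)
    haveI : (Subgroup.centralizer (N : Set G)).Normal := Subgroup.normal_centralizer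
    rcases hmin (N ⊓ Subgroup.centralizer (N : Set G)) inferInstance inf_le_left with hc | hc
    · obtain ⟨M, hM⟩ := exists_factor hNn hN1 hmin hc
      exact bound_nonabelian ih hn hn2 a ⟨hNn, hc, hM⟩ hmin hsup
    · have hab : ∀ x ∈ N, ∀ y ∈ N, x * y = y * x := fun x hx y hy =>
        (Subgroup.mem_centralizer_iff.1 ((inf_eq_left.1 hc) hy) x hx)
      have hreg : N ⊓ stabilizer G a = ⊥ := by
        have hnor : (N ⊓ stabilizer G a).Normal := by
          refine ⟨fun x hx g => ?_⟩
          obtain ⟨u, hu, h, hh, rfl⟩ := Subgroup.mem_sup_of_normal_left.1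
            ((hsup N hNn hN1).symm ▸ Subgroup.mem_top g : g ∈ _)
          have h1 : h * x * h⁻¹ ∈ N ⊓ stabilizer G a :=
            ⟨hNn.conj_mem x hx.1 h, (stabilizer G a).mul_mem ((stabilizer G a).mul_mem hh hx.2)
              ((stabilizer G a).inv_mem hh)⟩
          have h2 : u * h * x * (u * h)⁻¹ = h * x * h⁻¹ := by
            calc u * h * x * (u * h)⁻¹ = u * (h * x * h⁻¹) * u⁻¹ := by group
              _ = _ := by rw [hab u hu _ h1.1, mul_inv_cancel_right]
          rw [h2]
          exact h1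
        refine (hmin _ hnor inf_le_left).resolve_right fun h => ?_
        have h3 : stabilizer G a = ⊤ := by
          have := hsup N hNn hN1
          rwa [sup_eq_right.2 (inf_eq_left.1 h)] at this
        have : Subsingleton Ω := ⟨fun x y => by
          obtain ⟨g, rfl⟩ := exists_smul_eq G a x
          obtain ⟨g', rfl⟩ := exists_smul_eq G a y
          rw [mem_stabilizer_iff.1 (h3.symm ▸ Subgroup.mem_top g : g ∈ stabilizer G a),
            mem_stabilizer_iff.1 (h3.symm ▸ Subgroup.mem_top g' : g' ∈ stabilizer G a)]⟩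
        have := Finite.card_le_one_iff_subsingleton.2 this
        omega
      exact bound_affine ih hn hn2 a N hN1 hmin hab (hsup N hNn hN1) hreg

end Cfsg.Agent.Lib.CompLength.Bound
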